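import Cfsg.Agent.H32.M24Quad.Uniq
import Cfsg.Agent.H17.UnitaryPoints

/-! The 45 isotropic points of the unitary space of dimension four inside the perpendicular of an
isotropic vector of the space of dimension six. -/

set_option autoImplicit false

namespace Cfsg.Agent.H32.M24Quad

open Cfsg.Agent.H17.UPoints

/-- Product of two codes for elements of the field of four elements. -/
def m4 (a b : ℕ) : ℕ :=
  if a == 0 || b == 0 then 0 else if a == 1 then b else if b == 1 then a else
    if a == 2 && b == 2 then 3 else if a == 3 && b == 3 then 2 else 1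

/-- A coordinate of a point. -/
def gc (i j : ℕ) : ℕ := (gVecs.getD i []).getD j 0

/-- The hermitian product of two lists of codes. -/
def hcode (u v : List ℕ) : ℕ :=
  ((List.range 4).map fun j => m4 (u.getD j 0) (m4 (v.getD j 0) (v.getD j 0))).foldl Nat.xor 0

set_option maxRecDepth 100000 in
theorem gc_lt : ∀ i : Fin 45, ∀ j : Fin 4, gc i j < 4 := by decide +kernel

set_option maxRecDepth 100000 in
theorem hcode_gVecs : ∀ i k : Fin 45,
    ((hcode (gVecs.getD i []) (gVecs.getD k []) == 0) = ((i : ℕ) == k || gAdj i k)) := by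
  decide +kernel

set_option maxRecDepth 100000 in
theorem code_cover : ∀ a b c e : Fin 4, (a.val != 0 || b.val != 0 || c.val != 0 || e.val != 0) = true →
    hcode [a, b, c, e] [a, b, c, e] = 0 →
    ∃ i : Fin 45, ∃ l : Fin 4, l.val ≠ 0 ∧ m4 l (gc i 0) = a ∧ m4 l (gc i 1) = b ∧
      m4 l (gc i 2) = c ∧ m4 l (gc i 3) = e := by
  decide +kernel

set_option maxRecDepth 100000 in
theorem g_twin : ∀ i k : Fin 45, ((i : ℕ) == k || gAdj i k) = true →
    (∀ j : Fin 45, gAdj i j = true → ((k : ℕ) == j || gAdj k j) = true) → k = i := by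
  decide +kernel

set_option maxRecDepth 100000 in
theorem g_scalar : ∀ i k : Fin 45, ∀ l : Fin 4, (∀ j : Fin 4, m4 l (gc i j) = gc k j) → i = k := by
  decide +kernel

set_option maxRecDepth 100000 in
theorem m4_lt : ∀ a b : Fin 4, m4 a b < 4 ∧ Nat.xor a b < 4 := by decide +kernel

variable {F : Type} [Field F] [Fintype F]

theorem exists_gen (hF : Fintype.card F = 4) : ∃ w : F, w ≠ 0 ∧ w ≠ 1 := by
  classical
  by_contra h
  push Not at h
  have : (Finset.univ : Finset F) ⊆ {0, 1} := fun x _ => by
    by_cases hx : x = 0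
    · simp [hx]
    · simp [h x hx]
  have := (Finset.card_le_card this).trans Finset.card_le_two
  rw [Finset.card_univ, hF] at this
  omega

variable (hF : Fintype.card F = 4)
include hF

/-- The element with a given code. -/
noncomputable def cd (a : ℕ) : F :=
  if a = 0 then 0 else if a = 1 then 1 else if a = 2 then (exists_gen hF).choose
  else (exists_gen hF).choose + 1

theorem cd_sq : ((exists_gen hF).choose) * (exists_gen hF).choose = (exists_gen hF).choose + 1 := by
  obtain ⟨h0, h1⟩ := (exists_gen hF).choose_spec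
  set w := (exists_gen hF).choose
  have h3 := cube hF h0
  have hmul : (w + 1) * (w * w + w + 1) = 0 := by
    have : (w + 1) * (w * w + w + 1) = w * w * w + 1 + 2 * (w * w + w) := by ring
    rw [this, h3, two_mul, add_self hF, add_self hF, add_zero]
  rcases mul_eq_zero.1 hmul with h | h
  · exact absurd ((eq_neg_of_add_eq_zero_left h).trans
      (eq_comm.1 (eq_neg_of_add_eq_zero_left (add_self hF (1 : F))))) h1
  · have := congrArg (fun x => x + (w + 1)) h
    simp only [zero_add] at this
    rw [show w * w + w + 1 + (w + 1) = w * w + ((w + w) + (1 + 1)) by ring, add_self hF,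
      add_self hF, add_zero, add_zero] at this
    exact this

theorem cd_add {a b : ℕ} (ha : a < 4) (hb : b < 4) :
    cd hF (Nat.xor a b) = cd hF a + cd hF b := by
  have h2 := add_self hF (1 : F)
  have hw := add_self hF ((exists_gen hF).choose)
  interval_cases a <;> interval_cases b <;>
    simp [cd, Nat.xor, Nat.bitwise, add_self hF] <;>
    first
      | done
      | (generalize (exists_gen hF).choose = w at *; linear_combination 0)
      | (generalize (exists_gen hF).choose = w at *; linear_combination -1*h2)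
      | (generalize (exists_gen hF).choose = w at *; linear_combination h2)
      | (generalize (exists_gen hF).choose = w at *; linear_combination -1*hw)
      | (generalize (exists_gen hF).choose = w at *; linear_combination hw)
      | (generalize (exists_gen hF).choose = w at *; linear_combination hw + h2)
      | (generalize (exists_gen hF).choose = w at *; linear_combination -1*hw - h2)
      | (generalize (exists_gen hF).choose = w at *; linear_combination hw - h2)
      | (generalize (exists_gen hF).choose = w at *; linear_combination -1*hw + h2)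

theorem cd_mul {a b : ℕ} (ha : a < 4) (hb : b < 4) :
    cd hF (m4 a b) = cd hF a * cd hF b := by
  have h2 := add_self hF (1 : F)
  have hs := cd_sq hF
  interval_cases a <;> interval_cases b <;> simp [cd, m4] <;>
    first
      | done
      | (generalize (exists_gen hF).choose = w at *; linear_combination hs)
      | (generalize (exists_gen hF).choose = w at *; linear_combination -1*hs)
      | (generalize (exists_gen hF).choose = w at *; linear_combination hs + h2)
      | (generalize (exists_gen hF).choose = w at *; linear_combination hs + w*h2)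
      | (generalize (exists_gen hF).choose = w at *; linear_combination hs + (w+1)*h2)
      | (generalize (exists_gen hF).choose = w at *; linear_combination -1*hs - w*h2)
      | (generalize (exists_gen hF).choose = w at *; linear_combination -1*hs - h2)
      | (generalize (exists_gen hF).choose = w at *; linear_combination -1*hs - (w+1)*h2)
      | (generalize (exists_gen hF).choose = w at *; linear_combination hs - w*h2)
      | (generalize (exists_gen hF).choose = w at *; linear_combination -1*hs + w*h2)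
      | (generalize (exists_gen hF).choose = w at *; linear_combination -1*hs + h2)
      | (generalize (exists_gen hF).choose = w at *; linear_combination hs - h2)
      | (generalize (exists_gen hF).choose = w at *; linear_combination (-1:F)*hs + (w+1)*h2)

theorem cd_inj {a b : ℕ} (ha : a < 4) (hb : b < 4) (h : cd hF a = cd hF b) : a = b := by
  obtain ⟨h0, h1⟩ := (exists_gen hF).choose_spec
  have h01 : (exists_gen hF).choose + 1 ≠ 0 := fun e => h1
    ((eq_neg_of_add_eq_zero_left e).trans
      (eq_comm.1 (eq_neg_of_add_eq_zero_left (add_self hF (1 : F)))))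
  interval_cases a <;> interval_cases b <;> simp [cd] at h <;> first
    | rfl
    | exact absurd h h0
    | exact absurd h.symm h0
    | exact absurd h h1
    | exact absurd h.symm h1
    | exact absurd h h01
    | exact absurd h.symm h01

theorem cd_surj (x : F) : ∃ a, a < 4 ∧ cd hF a = x := by
  classical
  have hinj : Function.Injective fun a : Fin 4 => cd hF a := fun a b h =>
    Fin.ext (cd_inj hF a.isLt b.isLt h)
  obtain ⟨a, ha⟩ := ((Fintype.bijective_iff_injective_and_card _).2
    ⟨hinj, by rw [Fintype.card_fin, hF]⟩).2 x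
  exact ⟨a, a.isLt, ha⟩

/-- The distinguished isotropic vector. -/
def v0 : Fin 6 → F := ![1, 1, 0, 0, 0, 0]

/-- A vector with given codes. -/
noncomputable def v6 (u : List ℕ) : Fin 6 → F :=
  ![0, 0, cd hF (u.getD 0 0), cd hF (u.getD 1 0), cd hF (u.getD 2 0), cd hF (u.getD 3 0)]

omit hF in
theorem herm_six (u v : Fin 6 → F) : herm u v = u 0 * v 0 ^ 2 + u 1 * v 1 ^ 2 + u 2 * v 2 ^ 2 +
    u 3 * v 3 ^ 2 + u 4 * v 4 ^ 2 + u 5 * v 5 ^ 2 := by
  simp [herm, Cfsg.hermForm, Fin.sum_univ_six]

theorem herm_v6 {u v : List ℕ} (hu : ∀ j : Fin 4, u.getD j 0 < 4) (hv : ∀ j : Fin 4, v.getD j 0 < 4)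
    (s t : F) :
    herm (s • (v0 (F := F)) + v6 hF u) (t • (v0 (F := F)) + v6 hF v) = cd hF (hcode u v) := by
  obtain ⟨u0, u1, u2, u3⟩ : _ ∧ _ ∧ _ ∧ _ := ⟨hu 0, hu 1, hu 2, hu 3⟩
  obtain ⟨v0', v1, v2, v3⟩ : _ ∧ _ ∧ _ ∧ _ := ⟨hv 0, hv 1, hv 2, hv 3⟩
  simp only [Fin.val_zero, Fin.val_one, Fin.val_two] at u0 u1 u2 v0' v1 v2
  change u.getD 3 0 < 4 at u3
  change v.getD 3 0 < 4 at v3
  have hm : ∀ {a b : ℕ}, a < 4 → b < 4 → m4 a b < 4 := fun ha hb => (m4_lt ⟨_, ha⟩ ⟨_, hb⟩).1
  have hx : ∀ {a b : ℕ}, a < 4 → b < 4 → Nat.xor a b < 4 := fun ha hb => (m4_lt ⟨_, ha⟩ ⟨_, hb⟩).2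
  have p0 := hm u0 (hm v0' v0'); have p1 := hm u1 (hm v1 v1)
  have p2 := hm u2 (hm v2 v2); have p3 := hm u3 (hm v3 v3)
  have h0 : cd hF 0 = (0 : F) := rfl
  rw [show hcode u v = Nat.xor (Nat.xor (Nat.xor (Nat.xor 0 (m4 (u.getD 0 0)
        (m4 (v.getD 0 0) (v.getD 0 0)))) (m4 (u.getD 1 0) (m4 (v.getD 1 0) (v.getD 1 0))))
        (m4 (u.getD 2 0) (m4 (v.getD 2 0) (v.getD 2 0))))
        (m4 (u.getD 3 0) (m4 (v.getD 3 0) (v.getD 3 0))) from rfl,
    cd_add hF (hx (hx (hx (by omega) p0) p1) p2) p3, cd_add hF (hx (hx (by omega) p0) p1) p2,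
    cd_add hF (hx (by omega) p0) p1, cd_add hF (by omega) p0, h0,
    cd_mul hF u0 (hm v0' v0'), cd_mul hF u1 (hm v1 v1), cd_mul hF u2 (hm v2 v2),
    cd_mul hF u3 (hm v3 v3), cd_mul hF v0' v0', cd_mul hF v1 v1, cd_mul hF v2 v2, cd_mul hF v3 v3,
    herm_six]
  simp [v0, v6]
  linear_combination (norm := ring_nf) 0 * h0 + add_self hF (s * t ^ 2)

/-- Every isotropic vector perpendicular to the distinguished one lies on one of the 45 lines. -/
theorem perp_cases {x : Fin 6 → F} (hx0 : x ≠ 0) (hxx : herm x x = 0)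
    (hxv : herm x ((v0 (F := F))) = 0) :
    (∃ a : F, a ≠ 0 ∧ x = a • (v0 (F := F))) ∨
    ∃ i : Fin 45, ∃ a s : F, a ≠ 0 ∧ x = a • (s • (v0 (F := F)) + v6 hF (gVecs.getD i [])) := by
  have h01 : x 1 = x 0 := by
    rw [herm_six] at hxv
    simp [v0] at hxv
    linear_combination (norm := ring_nf) hxv - add_self hF (x 0)
  choose q hq hqx using fun j => cd_surj hF (x j)
  let u : List ℕ := [q 2, q 3, q 4, q 5]
  have hu : ∀ j : Fin 4, u.getD j 0 < 4 := fun j => by
    fin_cases j <;> simp [u, hq]
  have hdec : x = x 0 • (v0 (F := F)) + v6 hF u := by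
    funext j
    fin_cases j <;> simp [v0, v6, u, hqx, h01]
  by_cases hz : (q 2 != 0 || q 3 != 0 || q 4 != 0 || q 5 != 0) = true
  · right
    have hh : hcode u u = 0 := by
      have h := hxx
      rw [hdec, herm_v6 hF hu hu] at h
      refine cd_inj hF ?_ (by omega) (h.trans (by rfl))
      have := fun (a b : ℕ) (ha : a < 4) (hb : b < 4) => m4_lt ⟨a, ha⟩ ⟨b, hb⟩
      exact ((m4_lt ⟨_, ((m4_lt ⟨_, ((m4_lt ⟨_, ((m4_lt ⟨0, by omega⟩
        ⟨_, (this _ _ (hu 0) (this _ _ (hu 0) (hu 0)).1).1⟩)).2⟩
        ⟨_, (this _ _ (hu 1) (this _ _ (hu 1) (hu 1)).1).1⟩)).2⟩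
        ⟨_, (this _ _ (hu 2) (this _ _ (hu 2) (hu 2)).1).1⟩)).2⟩
        ⟨_, (this _ _ (hu 3) (this _ _ (hu 3) (hu 3)).1).1⟩)).2
    obtain ⟨i, l, hl, e0, e1, e2, e3⟩ :=
      code_cover ⟨q 2, hq 2⟩ ⟨q 3, hq 3⟩ ⟨q 4, hq 4⟩ ⟨q 5, hq 5⟩ hz hh
    have hl' : cd hF l ≠ (0 : F) := fun e => hl (cd_inj hF l.isLt (by omega) (e.trans rfl))
    refine ⟨i, cd hF l, (cd hF l)⁻¹ * x 0, hl', ?_⟩
    have e : ∀ j : Fin 4, cd hF l * cd hF (gc i j) = cd hF (u.getD j 0) := fun j => by
      rw [← cd_mul hF l.isLt (gc_lt i j)]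
      fin_cases j
      exacts [congrArg _ e0, congrArg _ e1, congrArg _ e2, congrArg _ e3]
    rw [smul_add, smul_smul, mul_inv_cancel_left₀ hl']
    conv_lhs => rw [hdec]
    congr 1
    funext j
    have f0 := e 0; have f1 := e 1; have f2 := e 2; have f3 := e 3
    simp only [gc] at f0 f1 f2 f3
    fin_cases j <;> simp [v6]
    exacts [f0.symm, f1.symm, f2.symm, f3.symm]
  · left
    simp only [Bool.or_eq_true, bne_iff_ne, ne_eq, not_or, not_not] at hz
    refine ⟨x 0, fun e => hx0 ?_, ?_⟩
    all_goals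
      obtain ⟨⟨⟨z2, z3⟩, z4⟩, z5⟩ := hz
      conv_lhs => rw [hdec]
    · funext j
      fin_cases j <;> simp [v0, v6, u, z2, z3, z4, z5, cd, e]
    · funext j
      fin_cases j <;> simp [v0, v6, u, z2, z3, z4, z5, cd]

end Cfsg.Agent.H32.M24Quad
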