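import Cfsg.Agent.H32.M24Quad.Quads

/-! In type M(24) exactly 504 members commute with a product of four, so there are 126 sets. -/

set_option autoImplicit false
set_option linter.unusedSectionVars false

namespace Cfsg.Agent.H32.M24Quad

open H61.Fischer (Quad quadSet W3 mem_W3 quad_at points_card four_lower)
open H43.FischerTwins (Sset)

variable {G : Type*} [Group G] [Finite G] {D : Set G}
variable (hD : Cfsg.IsThreeTranspositionClass D) (hprim : Cfsg.IsPrimitiveUnderConj D)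
  (h24 : Cfsg.IsOfTypeM24 G D)
include hD hprim h24

variable {z a b c d : G}

/-- The members commuting with none of three commuting members. -/
theorem none_ncard (Q : Quad D z a b c d) :
    {x | x ∈ D ∧ ¬ Commute a x ∧ ¬ Commute b x ∧ ¬ Commute c x}.ncard = 221760 := by
  classical
  have h1 : ∀ u ∈ D, {x | x ∈ D ∧ Commute u x}.ncard = 31672 := fun u hu => by
    have : {x | x ∈ D ∧ Commute u x} = insert u (Sset D u) := by
      ext x
      simp only [Set.mem_ofPred_eq, Set.mem_insert_iff, Sset]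
      refine ⟨fun h => (em (x = u)).imp id fun hne => ⟨h.1, hne, h.2⟩, ?_⟩
      rintro (rfl | h)
      exacts [⟨hu, Commute.refl _⟩, ⟨h.1, h.2.2⟩]
    rw [this, Set.ncard_insert_of_notMem (fun h => h.2.1 rfl) (Set.toFinite _),
      H87.M24.sset_ncard hD hprim h24 hu]
  have h2 : ∀ u ∈ D, ∀ v ∈ D, u ≠ v → Commute u v →
      ({x | x ∈ D ∧ Commute u x} ∩ {x | x ∈ D ∧ Commute v x}).ncard = 3512 := by
    intro u hu v hv hne huv
    have : {x | x ∈ D ∧ Commute u x} ∩ {x | x ∈ D ∧ Commute v x} =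
        insert u (insert v {x | x ∈ Sset D u ∧ x ≠ v ∧ Commute v x}) := by
      ext x
      simp only [Set.mem_inter_iff, Set.mem_ofPred_eq, Set.mem_insert_iff, Sset]
      constructor
      · intro h
        by_cases e1 : x = u
        · exact Or.inl e1
        by_cases e2 : x = v
        · exact Or.inr (Or.inl e2)
        exact Or.inr (Or.inr ⟨⟨h.1.1, e1, h.1.2⟩, e2, h.2.2⟩)
      · rintro (rfl | rfl | h)
        exacts [⟨⟨hu, Commute.refl _⟩, hu, huv.symm⟩, ⟨⟨hv, huv⟩, hv, Commute.refl _⟩,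
          ⟨⟨h.1.1, h.1.2.2⟩, h.1.1, h.2.2⟩]
    rw [this, Set.ncard_insert_of_notMem ?_ (Set.toFinite _),
      Set.ncard_insert_of_notMem (fun h => h.2.1 rfl) (Set.toFinite _),
      H87.M24.near_ncard hD hprim h24 hu ⟨hv, hne.symm, huv⟩]
    rintro (h | h)
    exacts [hne h, h.1.2.1 rfl]
  have h3 : ({x | x ∈ D ∧ Commute a x} ∩ {x | x ∈ D ∧ Commute b x} ∩
      {x | x ∈ D ∧ Commute c x}).ncard = 696 := by
    have : {x | x ∈ D ∧ Commute a x} ∩ {x | x ∈ D ∧ Commute b x} ∩ {x | x ∈ D ∧ Commute c x} =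
        insert a (insert b (insert c (W3 D a b c))) := by
      ext x
      simp only [Set.mem_inter_iff, Set.mem_ofPred_eq, Set.mem_insert_iff, mem_W3]
      constructor
      · intro h
        by_cases e1 : x = a
        · exact Or.inl e1
        by_cases e2 : x = b
        · exact Or.inr (Or.inl e2)
        by_cases e3 : x = c
        · exact Or.inr (Or.inr (Or.inl e3))
        exact Or.inr (Or.inr (Or.inr ⟨h.1.1.1, e1, e2, e3, h.1.1.2, h.1.2.2, h.2.2⟩))
      · rintro (rfl | rfl | rfl | ⟨h, -, -, -, h1, h2, h3⟩)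
        exacts [⟨⟨⟨Q.ha, Commute.refl _⟩, Q.ha, Q.cab.symm⟩, Q.ha, Q.cac.symm⟩,
          ⟨⟨⟨Q.hb, Q.cab⟩, Q.hb, Commute.refl _⟩, Q.hb, Q.cbc.symm⟩,
          ⟨⟨⟨Q.hc, Q.cac⟩, Q.hc, Q.cbc⟩, Q.hc, Commute.refl _⟩, ⟨⟨⟨h, h1⟩, h, h2⟩, h, h3⟩]
    obtain ⟨F, iF, iFF, iDF, ⟨P⟩⟩ := Q.points hD hprim h24
    rw [this, Set.ncard_insert_of_notMem ?_ (Set.toFinite _),
      Set.ncard_insert_of_notMem ?_ (Set.toFinite _),
      Set.ncard_insert_of_notMem ?_ (Set.toFinite _), points_card P]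
    · intro h; exact (mem_W3.1 h).2.2.2.1 rfl
    · rintro (h | h)
      exacts [Q.nbc h, (mem_W3.1 h).2.2.1 rfl]
    · rintro (h | h | h)
      exacts [Q.nab h, Q.nac h, (mem_W3.1 h).2.1 rfl]
  obtain ⟨A, hA⟩ : ∃ A, A = {x | x ∈ D ∧ Commute a x} := ⟨_, rfl⟩
  obtain ⟨B, hB⟩ : ∃ B, B = {x | x ∈ D ∧ Commute b x} := ⟨_, rfl⟩
  obtain ⟨C, hC⟩ : ∃ C, C = {x | x ∈ D ∧ Commute c x} := ⟨_, rfl⟩
  rw [← hA, ← hB, ← hC] at h3
  have hS : {x | x ∈ D ∧ ¬ Commute a x ∧ ¬ Commute b x ∧ ¬ Commute c x} = D \ (A ∪ B ∪ C) := by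
    ext x
    simp only [hA, hB, hC, Set.mem_sdiff, Set.mem_union, Set.mem_ofPred_eq]
    tauto
  rw [hS, Set.ncard_sdiff (by rw [hA, hB, hC]; rintro x ((h | h) | h) <;> exact h.1),
    (H87.M24.counts hD hprim h24).1]
  have e1 : A.ncard = 31672 := hA ▸ h1 a Q.ha
  have e2 : B.ncard = 31672 := hB ▸ h1 b Q.hb
  have e3 : C.ncard = 31672 := hC ▸ h1 c Q.hc
  have p1 : (A ∩ B).ncard = 3512 := hA ▸ hB ▸ h2 a Q.ha b Q.hb Q.nab Q.cab
  have p2 : (A ∩ C).ncard = 3512 := hA ▸ hC ▸ h2 a Q.ha c Q.hc Q.nac Q.cac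
  have p3 : (B ∩ C).ncard = 3512 := hB ▸ hC ▸ h2 b Q.hb c Q.hc Q.nbc Q.cbc
  have q1 := Set.ncard_union_add_ncard_inter A B
  have q2 := Set.ncard_union_add_ncard_inter (A ∪ B) C
  have q3 := Set.ncard_union_add_ncard_inter (A ∩ C) (B ∩ C)
  rw [← Set.union_inter_distrib_right, ← Set.inter_inter_distrib_right] at q3
  omega

/-- Exactly 320 members commute with the product and not with one factor. -/
theorem far_ncard (Q : Quad D z a b c d) :
    {x | x ∈ D ∧ Commute x z ∧ ¬ Commute d x}.ncard = 320 := by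
  classical
  obtain ⟨F, iF, iFF, iDF, ⟨P⟩⟩ := Q.points hD hprim h24
  have hG := hD.1
  have hQ : ∀ f : ↥(W3 D a b c), Quad D (a * b * c * f) a b c f := fun f => by
    obtain ⟨hf, n1, n2, n3, c1, c2, c3⟩ := mem_W3.1 f.2
    exact ⟨Q.ha, Q.hb, Q.hc, hf, Q.nab, Q.nac, n1.symm, Q.nbc, n2.symm, n3.symm, Q.cab, Q.cac, c1,
      Q.cbc, c2, c3, rfl⟩
  let T : ↥(W3 D a b c) → Set G :=
    fun f => {x | x ∈ D ∧ Commute x (a * b * c * f) ∧ ¬ Commute (f : G) x}
  have hge : ∀ f, 320 ≤ Nat.card ↥(T f) := fun f => by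
    obtain ⟨far, -, h2, h3⟩ := four_lower hD hprim h24 (hQ f)
    rw [Nat.card_coe_set_eq, show (T f).ncard = far from h2]
    exact h3
  have key : ∀ f x, x ∈ T f → (f : G) = x * (a * b * c * x * (a * b * c)⁻¹) * x ∧
      x ∈ {x | x ∈ D ∧ ¬ Commute a x ∧ ¬ Commute b x ∧ ¬ Commute c x} := by
    rintro f x ⟨hx, hxz, hfx⟩
    have R := hQ f
    refine ⟨?_, hx, fun h => hfx ?_, fun h => hfx ?_, fun h => hfx ?_⟩
    · have hf2 := H17.sq_one hG R.hd
      have hfi := H17.inv_self hG R.hd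
      have hfP : Commute (f : G) (a * b * c) :=
        (R.cad.symm.mul_right R.cbd.symm).mul_right R.ccd.symm
      have e : (f : G) * x * f = a * b * c * x * (a * b * c)⁻¹ := by
        have h' : a * b * c * f * x * (a * b * c * f)⁻¹ = x := by
          rw [← hxz.eq, mul_inv_cancel_right]
        calc (f : G) * x * f
            = f * (a * b * c * f * x * (a * b * c * f)⁻¹) * f := by rw [h']
          _ = ((f : G) * (a * b * c) * f) * x * ((f : G)⁻¹ * (a * b * c)⁻¹ * f) := by group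
          _ = _ := by
              rw [hfP.eq, mul_assoc _ (f : G) (f : G), hf2, mul_one,
                hfP.inv_left.inv_right.eq, mul_assoc (a * b * c)⁻¹, inv_mul_cancel, mul_one]
      have hb := H17.braid hG R.hd hx hfx
      rw [← e, hb]
      calc (f : G) = (x * x) * f * (x * x) := by rw [H17.sq_one hG hx, one_mul, mul_one]
        _ = x * (x * f * x) * x := by simp only [mul_assoc]
    · exact (R.rot.cases hD hprim h24 hx hxz h.symm).2.2.symm
    · exact (R.rot.rot.cases hD hprim h24 hx hxz h.symm).2.1.symm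
    · exact (R.rot.rot.rot.cases hD hprim h24 hx hxz h.symm).1.symm
  haveI : Fintype ↥(W3 D a b c) := Fintype.ofFinite _
  have hle : Nat.card (Σ f, ↥(T f)) ≤ 221760 := by
    rw [← none_ncard hD hprim h24 Q, ← Nat.card_coe_set_eq]
    refine Nat.card_le_card_of_injective (fun w => ⟨(w.2 : G), (key _ _ w.2.2).2⟩) ?_
    rintro ⟨f, x, hx⟩ ⟨g, y, hy⟩ h
    obtain rfl : x = y := congrArg Subtype.val h
    obtain rfl : f = g := Subtype.ext ((key f x hx).1.trans (key g x hy).1.symm)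
    rfl
  rw [Nat.card_sigma] at hle
  have hcard : (Finset.univ : Finset ↥(W3 D a b c)).card = 693 := by
    rw [Finset.card_univ, ← Nat.card_eq_fintype_card, Nat.card_coe_set_eq, points_card P]
  by_contra hne
  have hd : 320 < Nat.card ↥(T ⟨d, Q.self_mem⟩) := by
    refine lt_of_le_of_ne (hge _) (fun e => hne ?_)
    rw [Nat.card_coe_set_eq] at e
    simpa [T, Q.eq] using e.symm
  have := Finset.sum_lt_sum (s := Finset.univ) (fun f _ => hge f) ⟨_, Finset.mem_univ _, hd⟩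
  rw [Finset.sum_const, hcard, smul_eq_mul] at this
  omega

/-- The number of members commuting with the product. -/
theorem fixed_ncard (hz : H61.Fischer.Fac D 4 z) : {x | x ∈ D ∧ Commute x z}.ncard = 504 := by
  obtain ⟨a, ha, b, hb, c, hc, d, hd, nab, nac, nad, nbc, nbd, ncd, cab, cac, cad, cbc, cbd, ccd,
    e⟩ := H61.Fischer.fac_four hz
  have Q : Quad D z a b c d := ⟨ha, hb, hc, hd, nab, nac, nad, nbc, nbd, ncd, cab, cac, cad, cbc,
    cbd, ccd, e⟩
  obtain ⟨far, h1, h2, -⟩ := four_lower hD hprim h24 Q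
  rw [far_ncard hD hprim h24 Q] at h2
  omega

theorem quadSet_ncard {x : G} (hz : H61.Fischer.Fac D 4 z) (hx : x ∈ D) (hxz : Commute x z) :
    (quadSet D z x).ncard = 4 := by
  obtain ⟨a, b, c, Q⟩ := quad_exists hD hprim h24 hz hx hxz
  rw [Q.quadSet_eq hD hprim h24,
    Set.ncard_insert_of_notMem (by simp [Q.nab, Q.nac, Q.nad]) (Set.toFinite _),
    Set.ncard_eq_three.2 ⟨b, c, x, Q.nbc, Q.nbd, Q.ncd, rfl⟩]

theorem finite_QS : Finite (QS D z) := Subtype.finite

/-- There are 126 sets of four. -/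
theorem card_QS (hz : H61.Fischer.Fac D 4 z) : Nat.card (QS D z) = 126 := by
  haveI : Finite (QS D z) := Subtype.finite
  haveI : Fintype (QS D z) := Fintype.ofFinite _
  let e : (Σ s : QS D z, ↥s.1) → ↥{x | x ∈ D ∧ Commute x z} := fun w => ⟨w.2, by
    obtain ⟨x, hx, hxz, hs⟩ := w.1.2
    have := quadSet_props hD hprim h24 (show (w.2 : G) ∈ quadSet D z x by rw [hs]; exact w.2.2)
    exact ⟨this.1, this.2.1⟩⟩
  have he : Function.Bijective e := by
    constructor
    · rintro ⟨s, u, hu⟩ ⟨t, v, hv⟩ h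
      obtain rfl : u = v := congrArg Subtype.val h
      obtain ⟨x, hx, hxz, hs⟩ := s.2
      obtain ⟨y, hy, hyz, ht⟩ := t.2
      obtain rfl : s = t := Subtype.ext (by
        rw [← hs, ← ht, ← (quadSet_props hD hprim h24 (show u ∈ quadSet D z x from hs ▸ hu)).2.2.2.1,
          (quadSet_props hD hprim h24 (show u ∈ quadSet D z y from ht ▸ hv)).2.2.2.1])
      rfl
    · rintro ⟨x, hx, hxz⟩
      exact ⟨⟨mkQ hx hxz, x, self_mem_quadSet hD hprim h24 hz hx hxz⟩, rfl⟩
  have h504 := fixed_ncard hD hprim h24 hz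
  rw [← Nat.card_coe_set_eq, ← Nat.card_eq_of_bijective e he, Nat.card_sigma,
    Finset.sum_congr (g := fun _ : QS D z => 4) rfl fun (s : QS D z) _ => by
      obtain ⟨x, hx, hxz, hs⟩ := s.2
      rw [Nat.card_coe_set_eq, ← hs, quadSet_ncard hD hprim h24 hz hx hxz],
    Finset.sum_const, Finset.card_univ, smul_eq_mul, ← Nat.card_eq_fintype_card] at h504
  omega

end Cfsg.Agent.H32.M24Quad
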