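import Cfsg.Agent.H32.M24Quad.Tables


/-! Decidable facts about the polar graph of the 45 isotropic points and about the tables for the
graph of the 126 points. -/

set_option autoImplicit false

namespace Cfsg.Agent.H32.M24Quad

/-- The line through two adjacent points. -/
def lineL (a b : ℕ) : List ℕ :=
  a :: b :: (List.range 45).filter (fun c => gAdj a c && gAdj b c)

/-- The checks on one ordered pair for lines. -/
def chkLine (a b : ℕ) : Bool :=
  !(gAdj a b) || ((lineL a b).length == 5 &&
    (lineL a b).all (fun x => (lineL a b).all (fun y => x == y || gAdj x y)) &&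
    (List.range 45).all (fun c =>
      (lineL a b).contains c || (lineL a b).countP (fun v => gAdj c v) == 1))

set_option maxRecDepth 100000 in
theorem chkLine_all : (List.range 45).all (fun a => (List.range 45).all (fun b => chkLine a b)) =
    true := by decide +kernel

set_option maxRecDepth 100000 in
theorem gAdj_basic : ∀ a b : Fin 45, gAdj a a = false ∧ gAdj a b = gAdj b a := by decide +kernel

/-- The checks on one ordered pair for the third point. -/
def chkOp (a b : ℕ) : Bool :=
  let Ra := gRows.getD a 0
  decide (gOp a b < 45) &&
  if a == b || gAdj a b then gOp a b == b else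
    gOp a b != b && gOp a b != a && !(gAdj a (gOp a b)) && gOp a (gOp a b) == b &&
    (List.range 45).all (fun c =>
      c == a || c == b || c == gOp a b || !((gRows.getD c 0 &&& Ra) == (gRows.getD b 0 &&& Ra)))

set_option maxRecDepth 100000 in
theorem chkOp_all : (List.range 45).all (fun a => (List.range 45).all (fun b => chkOp a b)) =
    true := by decide +kernel

set_option maxRecDepth 100000 in
theorem gRows_lt : ∀ a : Fin 45, gRows.getD a 0 < 2 ^ 45 := by decide +kernel

/-- Exactly one bit. -/
def oneBit (m : ℕ) : Bool := m != 0 && (m &&& (m - 1)) == 0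

set_option maxRecDepth 100000 in
theorem oneBit_pow : ∀ v : Fin 45, oneBit (2 ^ (v : ℕ)) = true := by decide +kernel

/-- The checks on a triple with one common neighbour. -/
def chkSingle (u x : ℕ) : Bool :=
  u == x || gAdj u x ||
    (List.range 45).all (fun y => u == y || x == y || gAdj u y || gAdj x y || gAdj (gOp u x) y ||
      gOp u x == y || !(oneBit (gRows.getD u 0 &&& gRows.getD x 0 &&& gRows.getD y 0)))

set_option maxRecDepth 100000 in
theorem chkSingle_all :
    (List.range 45).all (fun u => (List.range 45).all (fun x => chkSingle u x)) = true := by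
  decide +kernel

/-- The mask of the members of a line. -/
def lineMask (l : List ℕ) : ℕ := l.foldl (fun m v => m ||| 2 ^ v) 0

/-- Counting members of a line in a mask. -/
def inLine (l : List ℕ) (m : ℕ) : ℕ := l.countP (fun v => m.testBit v)

/-- The search for the subsets meeting every line in two points and closed under the operation. -/
def search : List ℕ → ℕ → ℕ → List ℕ → Bool
  | [], inn, _, _ => traces.contains inn
  | x :: xs, inn, out, inl =>
    (((gLines.getD x []).any (fun l => decide (2 < inLine l (inn ||| 2 ^ x)))) ||
      inl.any (fun b => out.testBit (gOp x b) || out.testBit (gOp b x)) ||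
      search xs (inn ||| 2 ^ x) out (x :: inl)) &&
    (((gLines.getD x []).any (fun l => decide (3 < inLine l (out ||| 2 ^ x)))) ||
      search xs inn (out ||| 2 ^ x) inl)

set_option maxRecDepth 100000 in
theorem search_ok : search gOrder 0 0 [] = true := by decide +kernel

set_option maxRecDepth 100000 in
theorem gOrder_all : ∀ v : Fin 45, gOrder.contains (v : ℕ) = true := by decide +kernel

set_option maxRecDepth 100000 in
theorem gLines_ok : ∀ v : Fin 45, (gLines.getD v []).all (fun l =>
    l.length == 5 && decide l.Nodup && l.all (fun a => decide (a < 45) && l.all (fun b =>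
      a == b || gAdj a b))) = true := by decide +kernel

/-- The image of a mask under one operation. -/
def opMask (a m : ℕ) : ℕ :=
  (List.range 45).foldl (fun acc v => if m.testBit v then acc ||| 2 ^ gOp a v else acc) 0

/-- Removing the last forty points' shift. -/
def r0i (v : ℕ) : ℕ := if v < 46 then v else if v < 86 then v + 40 else v - 40

/-- The trace number of a far point. -/
def tix (v : ℕ) : ℕ := if v < 86 then v - 46 else v - 86

/-- Witness for a pair of traces. -/
def witOK (i k a w : ℕ) : Bool :=
  decide (i < 40) && decide (k < 40) && decide (a < 45) && decide (w < 45) &&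
  (traces.getD i 0).testBit a && (traces.getD k 0).testBit a &&
  (traces.getD i 0 &&& traces.getD k 0 &&& gRows.getD a 0) == 2 ^ w

/-- A premise of a deduction. -/
def prem (j : ℕ) (s : Bool) (a b : ℕ) : Bool :=
  decide (a < 126) && decide (b < 126) && decide (0 < mWhen a b) && decide (mWhen a b ≤ j) &&
    mAdj a b == s

/-- The premises of a hexad. -/
def hexPrem (j : ℕ) : List ℕ → Bool
  | [] => true
  | a :: rest => rest.all (fun b => prem j true a b) && hexPrem j rest

/-- One deduction is valid. -/
def stepOK (j : ℕ) : List ℕ → Bool
  | [0, x, y, a, b, c] => decide (x < 126) && decide (y < 126) && x != y && mAdj x y &&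
      hexPrem j [a, b, c] && [a, b, c].all (fun h => prem j true x h && prem j true y h)
  | [1, x, y] => decide (46 ≤ x) && decide (46 ≤ y) && decide (x < 126) && decide (y < 126) &&
      !(mAdj x y) && prem j true x (r0i y)
  | [2, x, y, a, w] => decide (46 ≤ x) && decide (46 ≤ y) && decide (x < 126) && decide (y < 126) &&
      mAdj x y && prem j false x (r0i y) && tix x != tix y && witOK (tix x) (tix y) a w
  | [3, x, y, p, q, r1, r2, r3] => decide (x < 126) && decide (y < 126) &&
      !(mAdj x y) && hexPrem j [p, q, y, r1, r2, r3] && !([y, r1, r2, r3].contains x) &&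
      prem j true x p && prem j true x q
  | [4, x, y, q1, q2, q3, q4, o] => decide (x < 126) && decide (y < 126) &&
      mAdj x y && hexPrem j [q1, q2, q3, q4, y, o] && !([q1, q2, q3, q4, y, o].contains x) &&
      [q1, q2, q3, q4].all (fun h => prem j false x h)
  | _ => false

set_option maxRecDepth 100000 in
theorem steps_ok : (List.range mSteps.length).all (fun i =>
    stepOK (i + 1) (mSteps.getD i [])) = true := by decide +kernel

/-- A tree edge. -/
def isTree (x y : ℕ) : Bool :=
  edgeTree.any (fun e => x == 46 + e.getD 0 0 &&
    y == (if e.getD 2 0 == 0 then 46 else 86) + e.getD 1 0)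

/-- A pair known from the start. -/
def isBase (x y : ℕ) : Bool :=
  decide (x < 46) || decide (y < 46) || x == y || x == r0i y ||
    isTree x y || isTree y x || isTree (r0i x) (r0i y) || isTree (r0i y) (r0i x)

/-- The check on the source of one pair. -/
def srcOK (x y : ℕ) : Bool :=
  if mWhen x y == 0 then !(mAdj x y) else
    if mWhen x y == 1 then isBase x y else
      let r := mSteps.getD (mWhen x y - 2) []
      let a := r.getD 1 0
      let b := r.getD 2 0
      decide (mWhen x y - 2 < mSteps.length) &&
        ((x == a && y == b) || (x == b && y == a) || (x == r0i a && y == r0i b) ||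
          (x == r0i b && y == r0i a))

set_option maxRecDepth 100000 in
theorem src_ok : (List.range 126).all (fun x => (List.range 126).all (fun y => srcOK x y)) =
    true := by decide +kernel

set_option maxRecDepth 100000 in
theorem mAdj_basic : ∀ a b : Fin 126,
    mAdj a a = false ∧ mAdj a b = mAdj b a ∧ mAdj (r0i a) (r0i b) = mAdj a b := by decide +kernel

set_option maxRecDepth 100000 in
theorem mDeg : ∀ a : Fin 126, (List.range 126).countP (fun b => mAdj a b) = 45 := by decide +kernel

/-- The rows of the first 46 points. -/
def chkNear : Bool :=
  (List.range 45).all (fun a => mAdj 0 (1 + a) &&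
    (List.range 45).all (fun b => mAdj (1 + a) (1 + b) == gAdj a b) &&
    (List.range 40).all (fun t => mAdj (1 + a) (46 + t) == (traces.getD t 0).testBit a &&
      mAdj (1 + a) (86 + t) == (traces.getD t 0).testBit a)) &&
  !(mAdj 0 0) && (List.range 40).all (fun t => !(mAdj 0 (46 + t)) && !(mAdj 0 (86 + t)) &&
    !(mAdj (46 + t) (86 + t)))

set_option maxRecDepth 100000 in
theorem near_ok : chkNear = true := by decide +kernel

/-- The trees start at zero, and each entry attaches a new trace to an earlier one. -/
def attachOK : List (ℕ × ℕ) → List ℕ → Bool
  | [], seen => seen.length == 40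
  | (k, i) :: rest, seen =>
    decide (k < 40) && seen.contains i && !(seen.contains k) && attachOK rest (k :: seen)

set_option maxRecDepth 100000 in
theorem traceTree_ok : attachOK (traceTree.map fun p => (p.1, p.2.1)) [0] = true ∧
    traceTree.all (fun p => decide (p.2.2 < 45) &&
      opMask p.2.2 (traces.getD p.2.1 0) == traces.getD p.1 0) = true := by decide +kernel

set_option maxRecDepth 100000 in
theorem edgeTree_ok : attachOK (edgeTree.map fun e => (e.getD 1 0, e.getD 0 0)) [0] = true ∧
    edgeTree.all (fun e => e.getD 0 0 != e.getD 1 0 && decide (e.getD 2 0 < 2) &&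
      witOK (e.getD 0 0) (e.getD 1 0) (e.getD 3 0) (e.getD 4 0) &&
      mAdj (46 + e.getD 0 0) ((if e.getD 2 0 == 0 then 46 else 86) + e.getD 1 0)) = true := by
  decide +kernel

set_option maxRecDepth 100000 in
theorem traces_ok : traces.length = 40 ∧ traces.Nodup ∧
    traces.all (fun t => decide (t < 2 ^ 45)) = true := by decide +kernel

/-- For a far point, the third point has the same common neighbours. -/
def chkMOp (p : ℕ) : Bool :=
  let Rp := mRows.getD p 0
  (List.range 126).all (fun x =>
    let o := mOp p x
    decide (o < 126) &&
    if x == p || mAdj p x then o == x else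
      o != x && o != p && !(mAdj p o) && (mRows.getD o 0 &&& Rp) == (mRows.getD x 0 &&& Rp))

set_option maxRecDepth 100000 in
theorem mOp_ok : (List.range 126).all chkMOp = true := by decide +kernel

end Cfsg.Agent.H32.M24Quad
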