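import Cfsg.Agent.H32.M24Quad.Count

/-! The sets of four near a given one are the 45 points, and the sets of four form a graph with
reflections. -/

set_option autoImplicit false
set_option linter.unusedSectionVars false

namespace Cfsg.Agent.H32.M24Quad

open H61.Fischer (Quad quadSet W3 mem_W3 quad_at PointMap m24_trans)
open H43.FischerTwins (Sset sset_conj)
open Cfsg.Agent.H17.UPoints

variable {G : Type*} [Group G] [Finite G] {D : Set G}
variable (hD : Cfsg.IsThreeTranspositionClass D) (hprim : Cfsg.IsPrimitiveUnderConj D)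
  (h24 : Cfsg.IsOfTypeM24 G D)
include hD hprim h24

variable {z a b c d : G}

/-- A numbering of the points in which the given member has the distinguished vector. -/
theorem exists_pointMap (Q : Quad D z a b c d) :
    ∃ (F : Type) (_ : Field F) (_ : Fintype F) (_ : DecidableEq F),
      ∃ P : PointMap (W3 D a b c) F, P.pt v0 = d := by
  obtain ⟨F, iF, iFF, iDF, ⟨P⟩⟩ := Q.points hD hprim h24
  have hv : herm (v0 : Fin 6 → F) v0 = 0 := by
    rw [herm_six]; simp [v0, add_self P.card]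
  have hv0 : (v0 : Fin 6 → F) ≠ 0 := fun h => by simpa [v0] using congrFun h 0
  obtain ⟨hd', n1, n2, n3, c1, c2, c3⟩ := mem_W3.1 (P.mem v0 hv0 hv)
  obtain ⟨g, hg⟩ := m24_trans hD hprim h24 4 (by norm_num) (by norm_num) [a, b, c, P.pt v0]
    [a, b, c, d] (by simp [Q.nab, Q.nac, Q.nbc, n1.symm, n2.symm, n3.symm])
    (by simp [Q.nab, Q.nac, Q.nad, Q.nbc, Q.nbd, Q.ncd]) rfl rfl
    (by simp [Q.ha, Q.hb, Q.hc, hd']) (by simp [Q.ha, Q.hb, Q.hc, Q.hd])
    (by simp [Q.cab, Q.cab.symm, Q.cac, Q.cac.symm, Q.cbc, Q.cbc.symm, c1, c1.symm, c2, c2.symm,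
      c3, c3.symm])
    (by simp [Q.cab, Q.cab.symm, Q.cac, Q.cac.symm, Q.cad, Q.cad.symm, Q.cbc, Q.cbc.symm, Q.cbd,
      Q.cbd.symm, Q.ccd, Q.ccd.symm])
  simp only [List.map_cons, List.map_nil, List.cons.injEq, and_true, MulAut.conj_apply] at hg
  obtain ⟨ga, gb, gc', gd⟩ := hg
  have hW : ∀ x, g * x * g⁻¹ ∈ W3 D a b c ↔ x ∈ W3 D a b c := fun x => by
    conv_lhs => rw [mem_W3, ← ga, ← gb, ← gc']
    simp only [H17.mem_conj_iff (H17.class_conj hD) g, H17.commute_conj, ne_eq, mul_left_inj,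
      mul_right_inj, mem_W3]
  refine ⟨F, iF, iFF, iDF, ⟨P.card, fun v => g * P.pt v * g⁻¹,
    fun v h0 hh => (hW _).2 (P.mem v h0 hh), fun x hx => ?_,
    fun u v u0 uu v0 vv h => P.inj u v u0 uu v0 vv (mul_left_cancel (mul_right_cancel h)),
    fun s v hs v0 vv => by rw [P.smul s v hs v0 vv],
    fun u v u0 uu v0 vv => by rw [H17.commute_conj, P.commute u v u0 uu v0 vv]⟩, gd⟩
  obtain ⟨v, h0, hh, hv⟩ := P.surj (g⁻¹ * x * g) ((hW _).1 (by
    rwa [show g * (g⁻¹ * x * g) * g⁻¹ = x by group]))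
  exact ⟨v, h0, hh, by rw [hv]; group⟩

/-- The sets adjacent to a given one form the graph of 45 points, the members of each being the
points of a line through the distinguished one. -/
theorem loc_data (Q : Quad D z a b c d) (hdz : Commute d z) {F : Type} [iF : Field F]
    [iFF : Fintype F] [iDF : DecidableEq F] (P : PointMap (W3 D a b c) F) (hPd : P.pt v0 = d) :
    (∃ f : Fin 45 → QS D z, Function.Injective f ∧
      (∀ t, adjQ (mkQ Q.hd hdz) t ↔ t ∈ Set.range f) ∧
      ∀ i k, adjQ (f i) (f k) ↔ gAdj i k = true) ∧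
    ∀ (i : Fin 45) (s : F), quadSet D z (P.pt (s • v0 + v6 P.card (gVecs.getD i []))) =
      Set.range (fun t : F => P.pt (t • v0 + v6 P.card (gVecs.getD i []))) := by
  classical
  have hz := Q.fac
  obtain ⟨V, hV⟩ : ∃ V : Fin 45 → Fin 6 → F, ∀ i, V i = v6 P.card (gVecs.getD i []) :=
    ⟨_, fun _ => rfl⟩
  have hlt : ∀ i : Fin 45, ∀ j : Fin 4, (gVecs.getD i []).getD j 0 < 4 := fun i j => gc_lt i j
  have hherm : ∀ i k : Fin 45, ∀ s t : F,
      (herm (s • v0 + V i) (t • v0 + V k) = 0 ↔ ((i : ℕ) == k || gAdj i k) = true) := by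
    intro i k s t
    rw [hV, hV, herm_v6 P.card (hlt i) (hlt k), ← hcode_gVecs, beq_iff_eq]
    refine ⟨fun h => cd_inj P.card ?_ (by omega) (h.trans rfl), fun h => by rw [h]; rfl⟩
    have hm : ∀ {p q : ℕ}, p < 4 → q < 4 → m4 p q < 4 := fun hp hq => (m4_lt ⟨_, hp⟩ ⟨_, hq⟩).1
    have hx : ∀ {p q : ℕ}, p < 4 → q < 4 → Nat.xor p q < 4 := fun hp hq =>
      (m4_lt ⟨_, hp⟩ ⟨_, hq⟩).2
    exact hx (hx (hx (hx (by omega) (hm (hlt i 0) (hm (hlt k 0) (hlt k 0))))
      (hm (hlt i 1) (hm (hlt k 1) (hlt k 1)))) (hm (hlt i 2) (hm (hlt k 2) (hlt k 2))))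
      (hm (hlt i 3) (hm (hlt k 3) (hlt k 3)))
  have hv0 : (v0 : Fin 6 → F) ≠ 0 := fun h => by simpa [v0] using congrFun h 0
  have hv00 : herm (v0 : Fin 6 → F) v0 = 0 := by
    rw [herm_six]; simp [v0, add_self P.card]
  have hcoord : ∀ (i k : Fin 45) (r s t : F), r • (s • v0 + V i) = t • v0 + V k → i = k := by
    intro i k r s t h
    obtain ⟨l, hl, hlr⟩ := cd_surj P.card r
    refine g_scalar i k ⟨l, hl⟩ fun j => ?_
    refine cd_inj P.card (m4_lt ⟨l, hl⟩ ⟨_, gc_lt i j⟩).1 (gc_lt k j) ?_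
    rw [cd_mul P.card hl (gc_lt i j), hlr]
    rw [hV, hV] at h
    fin_cases j
    · simpa [v0, v6, gc] using congrFun h 2
    · simpa [v0, v6, gc] using congrFun h 3
    · simpa [v0, v6, gc] using congrFun h 4
    · simpa [v0, v6, gc] using congrFun h 5
  have hne0 : ∀ (i : Fin 45) (s : F), s • v0 + V i ≠ 0 := fun i s h => by
    obtain ⟨k, hk⟩ : ∃ k : Fin 45, k ≠ i := exists_ne i
    have h' : (0 : F) • (s • v0 + V k) = s • v0 + V i := by rw [h, zero_smul]
    exact hk (hcoord k i 0 s s h')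
  have hiso : ∀ (i : Fin 45) (s : F), herm (s • v0 + V i) (s • v0 + V i) = 0 := fun i s =>
    (hherm i i s s).2 (by simp)
  have hperp : ∀ (i : Fin 45) (s : F), herm (s • v0 + V i) (v0 : Fin 6 → F) = 0 := fun i s => by
    rw [hV, herm_six]; simp [v0, v6, add_self P.card]
  -- the members
  let m : Fin 45 → F → G := fun i s => P.pt (s • v0 + V i)
  have hm : ∀ i s, m i s ∈ W3 D a b c ∧ Commute d (m i s) ∧ m i s ≠ d := fun i s => by
    refine ⟨P.mem _ (hne0 i s) (hiso i s), ?_, fun e => ?_⟩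
    · rw [← hPd, P.commute _ _ hv0 hv00 (hne0 i s) (hiso i s), herm_zero_comm P.card]
      exact hperp i s
    · obtain ⟨r, -, hr⟩ := P.inj _ _ (hne0 i s) (hiso i s) hv0 hv00 (e.trans hPd.symm)
      obtain ⟨k, hk⟩ : ∃ k : Fin 45, k ≠ i := exists_ne i
      have h' : (0 : F) • ((0 : F) • v0 + V k) = (s - r) • v0 + V i := by
        rw [zero_smul, sub_smul, sub_add_eq_add_sub, hr, sub_self]
      exact hk (hcoord k i 0 0 (s - r) h')
  have hmD : ∀ i s, m i s ∈ D ∧ Commute (m i s) z := fun i s => by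
    obtain ⟨hW, hc, hne⟩ := hm i s
    obtain ⟨h1, h2, -⟩ := (Q.near hD hprim h24).2 (Or.inr (Or.inr (Or.inr ⟨hW, hne, hc⟩)))
    exact ⟨h1, h2⟩
  have habc : ∀ y, y ∈ W3 D a b c → y ≠ d → y ∉ quadSet D z d := fun y hy hne hmem => by
    rw [Q.quadSet_eq hD hprim h24] at hmem
    obtain ⟨-, n1, n2, n3, -⟩ := mem_W3.1 hy
    simp only [Set.mem_insert_iff, Set.mem_singleton_iff] at hmem
    rcases hmem with h | h | h | h
    exacts [n1 h, n2 h, n3 h, hne h]
  have hline : ∀ i s, quadSet D z (m i s) = Set.range (m i) := by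
    intro i s
    obtain ⟨hD', hz'⟩ := hmD i s
    have hsub : quadSet D z (m i s) ⊆ Set.range (m i) := by
      intro y hy
      obtain ⟨hyD, hyz, hmy, hsame, hcom⟩ := quadSet_props hD hprim h24 hy
      have hdy : Commute d y := hcom d Q.hd hdz (hm i s).2.1
      have hnot : y ∉ quadSet D z d := fun h => by
        have := (quadSet_props hD hprim h24 h).2.2.2.1
        exact habc _ (hm i s).1 (hm i s).2.2 (this ▸ hsame.symm ▸
          self_mem_quadSet hD hprim h24 hz hD' hz')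
      have hyd : y ≠ d := fun e => hnot (by rw [e]; exact self_mem_quadSet hD hprim h24 hz Q.hd hdz)
      rcases (Q.near hD hprim h24).1 ⟨hyD, hyz, hyd, hdy⟩ with e | e | e | ⟨hW, -, -⟩
      · exact absurd (Q.quadSet_eq hD hprim h24 ▸ Or.inl e) hnot
      · exact absurd (Q.quadSet_eq hD hprim h24 ▸ Or.inr (Or.inl e)) hnot
      · exact absurd (Q.quadSet_eq hD hprim h24 ▸ Or.inr (Or.inr (Or.inl e))) hnot
      obtain ⟨v, v0', vv, rfl⟩ := P.surj y hW
      rw [← hPd, P.commute _ _ hv0 hv00 v0' vv, herm_zero_comm P.card] at hdy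
      rcases perp_cases P.card v0' vv hdy with ⟨r, hr, e⟩ | ⟨k, r, t, hr, e⟩
      · exact absurd (by rw [e, P.smul r _ hr hv0 hv00, hPd]) hyd
      rw [← hV] at e
      subst e
      rw [P.smul r _ hr (hne0 k t) (hiso k t)] at *
      have hik : k = i := by
        refine g_twin i k ?_ fun j hj => ?_
        · exact (hherm i k s t).1 ((P.commute _ _ (hne0 i s) (hiso i s) (hne0 k t) (hiso k t)).1 hmy)
        · rw [Bool.or_eq_true] at *
          have hjs : Commute (m j 0) (m i s) :=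
            ((P.commute _ _ (hne0 j 0) (hiso j 0) (hne0 i s) (hiso i s)).2 ((hherm j i 0 s).2 (by
              rw [show gAdj j i = gAdj i j from ((gAdj_basic i j).2).symm, hj, Bool.or_true])))
          have := hcom _ (hmD j 0).1 (hmD j 0).2 hjs
          have h' := (hherm k j t 0).1 ((P.commute _ _ (hne0 k t) (hiso k t) (hne0 j 0) (hiso j 0)).1
            this.symm)
          rwa [Bool.or_eq_true] at h'
      exact ⟨t, by rw [← hik]⟩
    refine Set.eq_of_subset_of_ncard_le hsub ?_ (Set.toFinite _)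
    rw [quadSet_ncard hD hprim h24 hz hD' hz', ← Nat.card_coe_set_eq]
    exact (Finite.card_range_le (m i)).trans (by rw [Nat.card_eq_fintype_card, P.card])
  obtain ⟨f, hf⟩ : ∃ f : Fin 45 → QS D z, ∀ i, f i = mkQ (hmD i 0).1 (hmD i 0).2 :=
    ⟨_, fun _ => rfl⟩
  have hfinj : Function.Injective f := fun i k h => by
    rw [hf, hf, mkQ_eq_iff hD hprim h24 hz, hline] at h
    obtain ⟨s, hs⟩ := h
    obtain ⟨r, -, hr⟩ := P.inj _ _ (hne0 k 0) (hiso k 0) (hne0 i s) (hiso i s) hs.symm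
    exact hcoord i k r s 0 hr.symm
  refine ⟨⟨f, hfinj, fun t => ⟨fun h => ?_, ?_⟩, fun i k => ?_⟩,
    fun i s => by have := hline i s; simp only [m, hV] at this; exact this⟩
  · obtain ⟨y, hy, hyz, rfl⟩ := exists_mk t
    obtain ⟨hne, hdy⟩ := (adjQ_mk hD hprim h24 hz Q.hd hdz hy hyz).1 h
    have hnot : y ∉ quadSet D z d := fun e => hne ((mkQ_eq_iff hD hprim h24 hz _ _ _ _).2 e)
    have hyd : y ≠ d := fun e => hnot (by rw [e]; exact self_mem_quadSet hD hprim h24 hz Q.hd hdz)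
    rcases (Q.near hD hprim h24).1 ⟨hy, hyz, hyd, hdy⟩ with e | e | e | ⟨hW, -, -⟩
    · exact absurd (Q.quadSet_eq hD hprim h24 ▸ Or.inl e) hnot
    · exact absurd (Q.quadSet_eq hD hprim h24 ▸ Or.inr (Or.inl e)) hnot
    · exact absurd (Q.quadSet_eq hD hprim h24 ▸ Or.inr (Or.inr (Or.inl e))) hnot
    obtain ⟨v, v0', vv, hv⟩ := P.surj y hW
    have hdv := hdy
    rw [← hv, ← hPd, P.commute _ _ hv0 hv00 v0' vv, herm_zero_comm P.card] at hdv
    rcases perp_cases P.card v0' vv hdv with ⟨r, hr, e⟩ | ⟨k, r, s, hr, e⟩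
    · exact absurd (by rw [← hv, e, P.smul r _ hr hv0 hv00, hPd]) hyd
    rw [← hV] at e
    refine ⟨k, ?_⟩
    rw [hf, mkQ_eq_iff hD hprim h24 hz, hline]
    exact ⟨s, by rw [← hv, e, P.smul r _ hr (hne0 k s) (hiso k s)]⟩
  · rintro ⟨i, rfl⟩
    rw [hf, adjQ_mk hD hprim h24 hz]
    refine ⟨fun e => ?_, (hm i 0).2.1⟩
    rw [mkQ_eq_iff hD hprim h24 hz] at e
    exact habc _ (hm i 0).1 (hm i 0).2.2 e
  · rw [hf, hf, adjQ_mk hD hprim h24 hz, ← hf, ← hf, hfinj.ne_iff,
      P.commute _ _ (hne0 i 0) (hiso i 0) (hne0 k 0) (hiso k 0), hherm, Bool.or_eq_true, beq_iff_eq]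
    exact ⟨fun h => h.2.resolve_left (fun e => h.1 (Fin.ext e)),
      fun h => ⟨gadj_ne h, Or.inr h⟩⟩

/-- The sets adjacent to a given one form the graph of 45 points. -/
theorem loc_quad (Q : Quad D z a b c d) (hdz : Commute d z) :
    ∃ f : Fin 45 → QS D z, Function.Injective f ∧
      (∀ t, adjQ (mkQ Q.hd hdz) t ↔ t ∈ Set.range f) ∧
      ∀ i k, adjQ (f i) (f k) ↔ gAdj i k = true := by
  obtain ⟨F, iF, iFF, iDF, P, hPd⟩ := exists_pointMap hD hprim h24 Q
  exact (loc_data hD hprim h24 Q hdz P hPd).1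

/-- The graph of the sets of four, with reflections. -/
noncomputable def quadSys (hz : H61.Fischer.Fac D 4 z) : Sys (QS D z) where
  adj := adjQ
  r := refQ hD
  card := card_QS hD hprim h24 hz
  irrefl := fun _ h => h.1 rfl
  symm := fun h => ⟨h.1.symm, fun x hx y hy => (h.2 y hy x hx).symm⟩
  r_adj := fun p s t h => by
    refine ⟨(Equiv.injective _).ne h.1, ?_⟩
    rintro _ ⟨u, hu, rfl⟩ _ ⟨v, hv, rfl⟩
    exact (H17.commute_conj _).2 (h.2 u hu v hv)
  r_invol := fun p t => by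
    obtain ⟨x, hx, hxz, rfl⟩ := exists_mk p
    rw [refQ_mk hD hprim h24 hz hx hxz, refQ_mk hD hprim h24 hz hx hxz, ← Equiv.Perm.mul_apply,
      ← map_mul]
    have : (⟨x, Subgroup.mem_centralizer_singleton_iff.2 hxz⟩ :
        ↥(Subgroup.centralizer ({z} : Set G))) * ⟨x, Subgroup.mem_centralizer_singleton_iff.2 hxz⟩
        = 1 := Subtype.ext (H17.sq_one hD.1 hx)
    rw [this, map_one]
    rfl
  r_fix := fun p t => by
    obtain ⟨x, hx, hxz, rfl⟩ := exists_mk p
    obtain ⟨y, hy, hyz, rfl⟩ := exists_mk t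
    rw [refQ_mk hD hprim h24 hz hx hxz, actQ_mk, adjQ_mk hD hprim h24 hz]
    by_cases hc : Commute x y
    · refine iff_of_true (Subtype.ext ?_) ((em _).imp id fun h => ⟨Ne.symm h, hc⟩)
      show quadSet D z (x * y * x⁻¹) = quadSet D z y
      rw [hc.eq, mul_inv_cancel_right]
    · refine iff_of_false (fun h => hc ?_) ?_
      · rw [mkQ_eq_iff hD hprim h24 hz] at h
        have h1 := (quadSet_props hD hprim h24 h).2.2.1
        have hb := H17.braid hD.1 hx hy hc
        have hy2 := H17.sq_one hD.1 hy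
        have hxi := H17.inv_self hD.1 hx
        simp only [hxi] at h1
        have h2 : y * x * (y * y) = y * y * (x * y) := by
          have e := h1.eq
          rw [hb] at e
          simpa only [mul_assoc] using e
        rw [hy2, mul_one, one_mul] at h2
        exact h2.symm
      · rintro (h | h)
        · rw [mkQ_eq_iff hD hprim h24 hz] at h
          exact hc (quadSet_props hD hprim h24 h).2.2.1.symm
        · exact hc h.2
  r_comm := fun {p q} hne hadj => by
    obtain ⟨x, hx, hxz, rfl⟩ := exists_mk p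
    obtain ⟨y, hy, hyz, rfl⟩ := exists_mk q
    rw [refQ_mk hD hprim h24 hz hx hxz, refQ_mk hD hprim h24 hz hy hyz, actQ_mk, actQ_mk]
    refine Subtype.ext ?_
    show quadSet D z (x * y * x⁻¹) = quadSet D z (y * x * y⁻¹)
    rw [H17.inv_self hD.1 hx, H17.inv_self hD.1 hy, H17.braid hD.1 hx hy
      (fun h => hadj ((adjQ_mk hD hprim h24 hz hx hxz hy hyz).2 ⟨hne, h⟩))]
  loc := fun p => by
    obtain ⟨x, hx, hxz, rfl⟩ := exists_mk p
    obtain ⟨a, b, c, Q⟩ := quad_exists hD hprim h24 hz hx hxz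
    exact loc_quad hD hprim h24 Q hxz

end Cfsg.Agent.H32.M24Quad
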