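import Mathlib

/-! Vectors and certificates for the orthogonal model of the 126 points. -/

set_option autoImplicit false

namespace Cfsg.Agent.H32.M24Quad

/-- The vectors of norm one, one for each point. -/
def mVecs : List (List ℕ) := [
  [0, 0, 0, 0, 0, 1], [1, 2, 2, 1, 0, 0], [2, 0, 0, 2, 1, 0], [0, 2, 2, 0, 1, 0],
  [0, 1, 0, 0, 1, 0], [2, 1, 2, 2, 1, 0], [2, 0, 2, 2, 0, 0], [2, 2, 1, 2, 1, 0],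
  [0, 0, 1, 0, 1, 0], [1, 1, 0, 1, 0, 0], [1, 2, 2, 2, 1, 0], [1, 0, 0, 0, 1, 0],
  [0, 1, 1, 1, 0, 0], [0, 0, 0, 1, 1, 0], [2, 2, 2, 1, 1, 0], [2, 2, 2, 0, 0, 0],
  [1, 1, 2, 2, 0, 0], [1, 0, 1, 0, 0, 0], [0, 1, 1, 0, 1, 0], [2, 1, 0, 0, 1, 0],
  [1, 0, 0, 1, 1, 0], [0, 1, 0, 1, 0, 0], [1, 2, 0, 0, 1, 0], [0, 0, 2, 1, 1, 0],
  [0, 0, 1, 2, 1, 0], [0, 0, 0, 0, 1, 0], [2, 2, 0, 0, 1, 0], [0, 1, 2, 0, 1, 0],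
  [2, 1, 1, 1, 1, 0], [1, 0, 1, 2, 0, 0], [0, 0, 0, 2, 1, 0], [0, 0, 1, 1, 1, 0],
  [0, 0, 2, 0, 1, 0], [0, 1, 2, 1, 0, 0], [1, 2, 1, 1, 1, 0], [1, 0, 0, 2, 1, 0],
  [0, 0, 2, 2, 1, 0], [1, 1, 0, 0, 1, 0], [1, 1, 1, 2, 1, 0], [1, 1, 2, 1, 1, 0],
  [2, 0, 0, 0, 1, 0], [0, 2, 1, 0, 1, 0], [1, 2, 1, 0, 0, 0], [0, 2, 0, 0, 1, 0],
  [2, 1, 0, 1, 0, 0], [2, 0, 0, 1, 1, 0], [1, 1, 1, 1, 1, 1], [0, 0, 1, 2, 0, 1],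
  [0, 2, 2, 1, 1, 1], [1, 2, 1, 1, 0, 1], [2, 0, 1, 0, 1, 1], [1, 1, 2, 0, 1, 1],
  [2, 0, 1, 2, 1, 1], [1, 2, 0, 0, 0, 1], [2, 2, 0, 0, 0, 1], [2, 2, 2, 2, 1, 1],
  [0, 0, 2, 0, 0, 1], [0, 1, 1, 2, 1, 1], [0, 2, 1, 0, 0, 1], [0, 2, 0, 0, 0, 1],
  [0, 1, 2, 2, 1, 1], [0, 2, 0, 1, 1, 1], [2, 0, 1, 1, 1, 1], [1, 1, 2, 1, 0, 1],
  [2, 2, 0, 1, 1, 1], [0, 0, 2, 2, 0, 1], [2, 1, 1, 0, 1, 1], [1, 2, 0, 1, 1, 1],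
  [1, 2, 2, 0, 1, 1], [2, 1, 2, 1, 1, 1], [2, 1, 1, 1, 0, 1], [0, 0, 0, 2, 0, 1],
  [1, 0, 2, 1, 1, 1], [1, 0, 0, 2, 0, 1], [0, 2, 1, 1, 1, 1], [2, 2, 1, 0, 1, 1],
  [1, 1, 1, 2, 0, 1], [1, 0, 2, 0, 1, 1], [2, 0, 0, 2, 0, 1], [1, 1, 0, 2, 1, 1],
  [1, 0, 2, 2, 1, 1], [2, 0, 0, 0, 0, 1], [0, 1, 0, 2, 1, 1], [0, 2, 2, 0, 0, 1],
  [1, 2, 1, 2, 1, 1], [2, 1, 0, 2, 1, 1], [2, 2, 2, 2, 2, 1], [0, 0, 2, 1, 0, 1],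
  [0, 1, 1, 2, 2, 1], [2, 1, 2, 2, 0, 1], [1, 0, 2, 0, 2, 1], [2, 2, 1, 0, 2, 1],
  [1, 0, 2, 1, 2, 1], [2, 1, 0, 0, 0, 1], [1, 1, 0, 0, 0, 1], [1, 1, 1, 1, 2, 1],
  [0, 0, 1, 0, 0, 1], [0, 2, 2, 1, 2, 1], [0, 1, 2, 0, 0, 1], [0, 1, 0, 0, 0, 1],
  [0, 2, 1, 1, 2, 1], [0, 1, 0, 2, 2, 1], [1, 0, 2, 2, 2, 1], [2, 2, 1, 2, 0, 1],
  [1, 1, 0, 2, 2, 1], [0, 0, 1, 1, 0, 1], [1, 2, 2, 0, 2, 1], [2, 1, 0, 2, 2, 1],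
  [2, 1, 1, 0, 2, 1], [1, 2, 1, 2, 2, 1], [1, 2, 2, 2, 0, 1], [0, 0, 0, 1, 0, 1],
  [2, 0, 1, 2, 2, 1], [2, 0, 0, 1, 0, 1], [0, 1, 2, 2, 2, 1], [1, 1, 2, 0, 2, 1],
  [2, 2, 2, 1, 0, 1], [2, 0, 1, 0, 2, 1], [1, 0, 0, 1, 0, 1], [2, 2, 0, 1, 2, 1],
  [2, 0, 1, 1, 2, 1], [1, 0, 0, 0, 0, 1], [0, 2, 0, 1, 2, 1], [0, 1, 1, 0, 0, 1],
  [2, 1, 2, 1, 2, 1], [1, 2, 0, 1, 2, 1]]

/-- Two commutators of reflections moving the first point to each point. -/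
def mOrbit : List (List ℕ) := [
  [0, 0, 0, 0], [0, 87, 0, 93], [0, 87, 0, 102], [0, 87, 0, 74],
  [0, 87, 0, 97], [0, 87, 0, 66], [0, 87, 0, 73], [0, 92, 0, 59],
  [0, 88, 0, 82], [0, 88, 0, 120], [0, 87, 0, 107], [0, 87, 0, 72],
  [0, 87, 0, 58], [0, 88, 0, 123], [0, 88, 0, 81], [0, 92, 0, 100],
  [0, 88, 0, 125], [0, 86, 0, 109], [0, 86, 0, 78], [0, 86, 0, 60],
  [0, 86, 0, 83], [0, 86, 0, 124], [0, 86, 0, 80], [0, 86, 0, 64],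
  [0, 86, 0, 75], [0, 86, 0, 55], [0, 88, 0, 84], [0, 86, 0, 85],
  [0, 86, 0, 121], [0, 86, 0, 122], [0, 86, 0, 116], [0, 86, 0, 54],
  [0, 86, 0, 103], [0, 86, 0, 117], [0, 86, 0, 99], [0, 86, 0, 68],
  [0, 94, 0, 95], [0, 86, 0, 65], [0, 86, 0, 111], [0, 86, 0, 96],
  [0, 86, 0, 110], [0, 86, 0, 52], [0, 86, 0, 101], [0, 86, 0, 89],
  [0, 86, 0, 90], [0, 86, 0, 48], [0, 0, 0, 86], [0, 0, 0, 87],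
  [0, 0, 0, 88], [0, 0, 0, 89], [0, 0, 0, 90], [0, 0, 0, 91],
  [0, 0, 0, 92], [0, 0, 0, 93], [0, 0, 0, 94], [0, 0, 0, 95],
  [0, 0, 0, 96], [0, 0, 0, 97], [0, 0, 0, 98], [0, 0, 0, 99],
  [0, 0, 0, 100], [0, 0, 0, 101], [0, 0, 0, 102], [0, 0, 0, 103],
  [0, 0, 0, 104], [0, 0, 0, 105], [0, 0, 0, 106], [0, 0, 0, 107],
  [0, 0, 0, 108], [0, 0, 0, 109], [0, 0, 0, 110], [0, 0, 0, 111],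
  [0, 0, 0, 112], [0, 0, 0, 113], [0, 0, 0, 114], [0, 0, 0, 115],
  [0, 0, 0, 116], [0, 0, 0, 117], [0, 0, 0, 118], [0, 0, 0, 119],
  [0, 0, 0, 120], [0, 0, 0, 121], [0, 0, 0, 122], [0, 0, 0, 123],
  [0, 0, 0, 124], [0, 0, 0, 125], [0, 0, 0, 46], [0, 0, 0, 47],
  [0, 0, 0, 48], [0, 0, 0, 49], [0, 0, 0, 50], [0, 0, 0, 51],
  [0, 0, 0, 52], [0, 0, 0, 53], [0, 0, 0, 54], [0, 0, 0, 55],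
  [0, 0, 0, 56], [0, 0, 0, 57], [0, 0, 0, 58], [0, 0, 0, 59],
  [0, 0, 0, 60], [0, 0, 0, 61], [0, 0, 0, 62], [0, 0, 0, 63],
  [0, 0, 0, 64], [0, 0, 0, 65], [0, 0, 0, 66], [0, 0, 0, 67],
  [0, 0, 0, 68], [0, 0, 0, 69], [0, 0, 0, 70], [0, 0, 0, 71],
  [0, 0, 0, 72], [0, 0, 0, 73], [0, 0, 0, 74], [0, 0, 0, 75],
  [0, 0, 0, 76], [0, 0, 0, 77], [0, 0, 0, 78], [0, 0, 0, 79],
  [0, 0, 0, 80], [0, 0, 0, 81], [0, 0, 0, 82], [0, 0, 0, 83],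
  [0, 0, 0, 84], [0, 0, 0, 85]]

/-- A commutator of reflections fixing the first point and moving each other point. -/
def mMove : List (List ℕ) := [
  [0, 0], [1, 2], [1, 2], [1, 2],
  [1, 2], [1, 2], [1, 2], [1, 2],
  [1, 2], [1, 2], [1, 2], [1, 2],
  [1, 2], [1, 2], [1, 2], [1, 2],
  [1, 4], [1, 2], [1, 2], [1, 2],
  [1, 2], [1, 2], [1, 2], [1, 2],
  [1, 2], [1, 2], [1, 4], [1, 2],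
  [1, 2], [1, 2], [1, 2], [1, 2],
  [1, 2], [1, 2], [1, 2], [1, 2],
  [1, 4], [1, 2], [1, 2], [1, 2],
  [1, 2], [1, 2], [1, 2], [1, 2],
  [1, 2], [1, 2], [1, 18], [1, 2],
  [1, 2], [1, 2], [1, 2], [1, 2],
  [1, 2], [1, 2], [1, 2], [1, 2],
  [1, 2], [1, 4], [1, 10], [1, 2],
  [1, 2], [1, 2], [1, 2], [1, 2],
  [1, 2], [1, 2], [1, 4], [1, 10],
  [1, 2], [1, 2], [1, 2], [1, 2],
  [1, 10], [1, 4], [1, 2], [1, 2],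
  [1, 2], [1, 2], [1, 2], [1, 2],
  [1, 2], [1, 2], [1, 2], [1, 2],
  [1, 2], [1, 2], [1, 18], [1, 2],
  [1, 2], [1, 2], [1, 2], [1, 2],
  [1, 2], [1, 2], [1, 2], [1, 2],
  [1, 2], [1, 4], [1, 10], [1, 2],
  [1, 2], [1, 2], [1, 2], [1, 2],
  [1, 2], [1, 2], [1, 4], [1, 10],
  [1, 2], [1, 2], [1, 2], [1, 2],
  [1, 10], [1, 4], [1, 2], [1, 2],
  [1, 2], [1, 2], [1, 2], [1, 2],
  [1, 2], [1, 2], [1, 2], [1, 2],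
  [1, 2], [1, 2]]

/-- Two triangles, each point opposite exactly one of the other triangle. -/
def mSix : List ℕ := [0, 1, 16, 46, 2, 26]

end Cfsg.Agent.H32.M24Quad
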