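import Cfsg.Agent.H61.Fischer.FourProduct
import Cfsg.Agent.H32.M24Quad.Code

/-! In type M(24) the sets of four with a given product, and the action of the centralizer of the
product on them. -/

set_option autoImplicit false
set_option linter.unusedSectionVars false

namespace Cfsg.Agent.H32.M24Quad

open H61.Fischer (Quad quadSet W3 mem_W3 quad_at PointMap points_card m24_trans m24_base)
open H43.FischerTwins (Sset sset_conj)

variable {G : Type*} [Group G] {D : Set G}

/-- The sets of four members with product `z`. -/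
def QS (D : Set G) (z : G) : Type _ :=
  {s : Set G // ∃ x, x ∈ D ∧ Commute x z ∧ quadSet D z x = s}

/-- The set at a member. -/
def mkQ {z x : G} (hx : x ∈ D) (hxz : Commute x z) : QS D z :=
  ⟨quadSet D z x, x, hx, hxz, rfl⟩

theorem conj_mem_center {z g : G} (hg : g ∈ Subgroup.centralizer ({z} : Set G)) : Commute g z :=
  Subgroup.mem_centralizer_singleton_iff.1 hg

theorem image_conj (hconj : ∀ g : G, ∀ y ∈ D, g * y * g⁻¹ ∈ D) {z g x : G} (hg : Commute g z) :
    (fun y => g * y * g⁻¹) '' quadSet D z x = quadSet D z (g * x * g⁻¹) := by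
  ext y
  constructor
  · rintro ⟨w, ⟨a, b, c, Q, hw⟩, rfl⟩
    refine ⟨_, _, _, Q.conj hconj hg, ?_⟩
    rcases hw with rfl | rfl | rfl | rfl <;> simp
  · rintro ⟨a, b, c, Q, hy⟩
    refine ⟨g⁻¹ * y * g, ⟨g⁻¹ * a * g, g⁻¹ * b * g, g⁻¹ * c * g, ?_, ?_⟩, by group⟩
    · have := Q.conj hconj hg.inv_left
      rw [inv_inv, show g⁻¹ * (g * x * g⁻¹) * g = x by group] at this
      exact this
    · rcases hy with rfl | rfl | rfl | rfl
      · simp
      · simp
      · simp
      · right; right; right; group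

theorem act_image_mem (hconj : ∀ g : G, ∀ y ∈ D, g * y * g⁻¹ ∈ D) {z : G}
    {g : G} (hg : Commute g z) (s : QS D z) :
    ∃ x, x ∈ D ∧ Commute x z ∧ quadSet D z x = (fun y => g * y * g⁻¹) '' s.1 := by
  obtain ⟨x, hx, hxz, hs⟩ := s.2
  refine ⟨g * x * g⁻¹, hconj g x hx, ?_, by rw [← hs, image_conj hconj hg]⟩
  exact (hg.mul_left hxz).mul_left hg.inv_left

/-- The action of the centralizer of the product on the sets of four. -/
noncomputable def actQ (hconj : ∀ g : G, ∀ y ∈ D, g * y * g⁻¹ ∈ D) (z : G) :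
    ↥(Subgroup.centralizer ({z} : Set G)) →* Equiv.Perm (QS D z) where
  toFun g :=
    { toFun := fun s => ⟨_, act_image_mem hconj (conj_mem_center g.2) s⟩
      invFun := fun s => ⟨_, act_image_mem hconj (conj_mem_center g.2).inv_left s⟩
      left_inv := fun s => Subtype.ext (by
        simp only [Set.image_image]
        simp [mul_assoc])
      right_inv := fun s => Subtype.ext (by
        simp only [Set.image_image]
        simp [mul_assoc]) }
  map_one' := by
    ext s : 1
    refine Subtype.ext ?_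
    show (fun y => ((1 : ↥(Subgroup.centralizer ({z} : Set G))) : G) * y *
        ((1 : ↥(Subgroup.centralizer ({z} : Set G))) : G)⁻¹) '' s.1 = s.1
    simp

  map_mul' g h := by
    ext s : 1
    refine Subtype.ext ?_
    show (fun y => ((g * h : ↥(Subgroup.centralizer ({z} : Set G))) : G) * y *
        ((g * h : ↥(Subgroup.centralizer ({z} : Set G))) : G)⁻¹) '' s.1 =
      (fun y => (g : G) * y * (g : G)⁻¹) '' ((fun y => (h : G) * y * (h : G)⁻¹) '' s.1)
    rw [Set.image_image]
    simp [mul_assoc]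

theorem actQ_mk (hconj : ∀ g : G, ∀ y ∈ D, g * y * g⁻¹ ∈ D) {z x : G} (hx : x ∈ D)
    (hxz : Commute x z) (g : ↥(Subgroup.centralizer ({z} : Set G))) :
    actQ hconj z g (mkQ hx hxz) = mkQ (hconj g x hx)
      (((conj_mem_center g.2).mul_left hxz).mul_left (conj_mem_center g.2).inv_left) :=
  Subtype.ext (image_conj hconj (conj_mem_center g.2))

/-- Adjacency of two sets of four. -/
def adjQ {z : G} (s t : QS D z) : Prop := s ≠ t ∧ ∀ x ∈ s.1, ∀ y ∈ t.1, Commute x y

variable [Finite G]

section m24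

variable (hD : Cfsg.IsThreeTranspositionClass D) (hprim : Cfsg.IsPrimitiveUnderConj D)
  (h24 : Cfsg.IsOfTypeM24 G D)
include hD hprim h24

variable {z : G}

theorem quad_exists (hz : H61.Fischer.Fac D 4 z) {x : G} (hx : x ∈ D) (hxz : Commute x z) :
    ∃ a b c, Quad D z a b c x := quad_at hD hprim h24 hz hx hxz

theorem self_mem_quadSet (hz : H61.Fischer.Fac D 4 z) {x : G} (hx : x ∈ D) (hxz : Commute x z) :
    x ∈ quadSet D z x := by
  obtain ⟨a, b, c, Q⟩ := quad_exists hD hprim h24 hz hx hxz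
  exact ⟨a, b, c, Q, by simp⟩

theorem quadSet_props {x y : G} (hy : y ∈ quadSet D z x) :
    y ∈ D ∧ Commute y z ∧ Commute x y ∧ quadSet D z y = quadSet D z x ∧
      ∀ w ∈ D, Commute w z → Commute w x → Commute w y := by
  obtain ⟨a, b, c, Q, hy⟩ := hy
  refine ⟨Q.mem_D hy, ?_, ?_, Q.quadSet_same hD hprim h24 hy, fun w hw hwz hwx => ?_⟩
  · rcases hy with rfl | rfl | rfl | rfl
    exacts [Q.commute_z (Commute.refl _) Q.cab Q.cac Q.cad,
      Q.commute_z Q.cab.symm (Commute.refl _) Q.cbc Q.cbd,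
      Q.commute_z Q.cac.symm Q.cbc.symm (Commute.refl _) Q.ccd,
      Q.commute_z Q.cad.symm Q.cbd.symm Q.ccd.symm (Commute.refl _)]
  · rcases hy with rfl | rfl | rfl | rfl
    exacts [Q.cad.symm, Q.cbd.symm, Q.ccd.symm, Commute.refl _]
  · obtain ⟨h1, h2, h3⟩ := Q.cases hD hprim h24 hw hwz hwx
    rcases hy with rfl | rfl | rfl | rfl
    exacts [h1, h2, h3, hwx]

theorem mkQ_eq_iff (hz : H61.Fischer.Fac D 4 z) {x y : G} (hx : x ∈ D) (hxz : Commute x z)
    (hy : y ∈ D) (hyz : Commute y z) : mkQ hx hxz = mkQ hy hyz ↔ y ∈ quadSet D z x := by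
  constructor
  · intro h
    have := congrArg Subtype.val h
    simp only [mkQ] at this
    rw [this]
    exact self_mem_quadSet hD hprim h24 hz hy hyz
  · intro h
    exact Subtype.ext (quadSet_props hD hprim h24 h).2.2.2.1.symm

omit [Finite G] hD hprim h24 in
theorem exists_mk (s : QS D z) : ∃ x, ∃ hx : x ∈ D, ∃ hxz : Commute x z, mkQ hx hxz = s := by
  obtain ⟨x, hx, hxz, hs⟩ := s.2
  exact ⟨x, hx, hxz, Subtype.ext hs⟩

/-- Two members of one set act alike. -/
theorem same_action (hz : H61.Fischer.Fac D 4 z) {x x' e : G} (hx : x ∈ D) (hxz : Commute x z)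
    (hx' : x' ∈ quadSet D z x) (he : e ∈ D) (hez : Commute e z) :
    quadSet D z (x * e * x⁻¹) = quadSet D z (x' * e * x'⁻¹) := by
  have hG := hD.1
  obtain ⟨hx'D, hx'z, hxx', -, hcom⟩ := quadSet_props hD hprim h24 hx'
  by_cases hc : Commute e x
  · rw [← hc.eq, mul_inv_cancel_right, ← (hcom e he hez hc).eq, mul_inv_cancel_right]
  have hnc' : ¬ Commute e x' := fun h => hc <| by
    have hsame := (quadSet_props hD hprim h24 hx').2.2.2.1
    have hxin : x ∈ quadSet D z x' := hsame.symm ▸ self_mem_quadSet hD hprim h24 hz hx hxz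
    exact (quadSet_props hD hprim h24 hxin).2.2.2.2 e he hez h
  have hxs := H17.sq_one hG hx
  have hxi := H17.inv_self hG hx
  have hes := H17.sq_one hG he
  have hei := H17.inv_self hG he
  have hb := H17.braid hG he hx hc
  have hb' := H17.braid hG he hx'D hnc'
  have hg : Commute (x * e) z := hxz.mul_left hez
  have hgx : x * e * x * (x * e)⁻¹ = e := by
    rw [mul_inv_rev, hxi, hei]
    calc x * e * x * (e * x) = x * (e * x * e) * x := by simp only [mul_assoc]
      _ = x * x * e * (x * x) := by rw [hb]; simp only [mul_assoc]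
      _ = e := by rw [hxs, one_mul, mul_one]
  have hgx' : x * e * x' * (x * e)⁻¹ = x * (x' * e * x') * x := by
    rw [mul_inv_rev, hxi, hei, ← hb']; simp only [mul_assoc]
  have h1 : x * (x' * e * x') * x ∈ quadSet D z e := by
    have := image_conj (H17.class_conj hD) (x := x) hg
    rw [hgx] at this
    rw [← this]
    exact ⟨x', hx', hgx'⟩
  have h2 : x' * e * x' ∈ quadSet D z (x * e * x⁻¹) := by
    rw [← image_conj (H17.class_conj hD) (x := e) hxz]
    refine ⟨_, h1, ?_⟩
    simp only [hxi, ← mul_assoc, hxs, one_mul]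
    rw [mul_assoc _ x x, hxs, mul_one]
  rw [H17.inv_self hG hx'D]
  exact ((quadSet_props hD hprim h24 h2).2.2.2.1).symm

theorem adjQ_mk (hz : H61.Fischer.Fac D 4 z) {x y : G} (hx : x ∈ D) (hxz : Commute x z)
    (hy : y ∈ D) (hyz : Commute y z) :
    adjQ (mkQ hx hxz) (mkQ hy hyz) ↔ mkQ hx hxz ≠ mkQ hy hyz ∧ Commute x y := by
  constructor
  · rintro ⟨h1, h2⟩
    exact ⟨h1, h2 x (self_mem_quadSet hD hprim h24 hz hx hxz) y
      (self_mem_quadSet hD hprim h24 hz hy hyz)⟩
  · rintro ⟨h1, h2⟩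
    refine ⟨h1, fun u hu v hv => ?_⟩
    obtain ⟨huD, huz, -, -, hu'⟩ := quadSet_props hD hprim h24 hu
    obtain ⟨-, -, -, -, hv'⟩ := quadSet_props hD hprim h24 hv
    exact hv' u huD huz ((hu' y hy hyz h2.symm).symm)

/-- The reflection in a set of four. -/
noncomputable def refQ (s : QS D z) : Equiv.Perm (QS D z) :=
  actQ (H17.class_conj hD) z
    ⟨s.2.choose, Subgroup.mem_centralizer_singleton_iff.2 s.2.choose_spec.2.1⟩

theorem refQ_mk (hz : H61.Fischer.Fac D 4 z) {x : G} (hx : x ∈ D) (hxz : Commute x z) (t : QS D z) :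
    refQ hD (mkQ hx hxz) t =
      actQ (H17.class_conj hD) z ⟨x, Subgroup.mem_centralizer_singleton_iff.2 hxz⟩ t := by
  obtain ⟨e, he, hez, rfl⟩ := exists_mk t
  have hspec := (mkQ hx hxz).2.choose_spec
  have hmem : (mkQ hx hxz).2.choose ∈ quadSet D z x := by
    have := self_mem_quadSet hD hprim h24 hz hspec.1 hspec.2.1
    rwa [hspec.2.2] at this
  unfold refQ
  rw [actQ_mk, actQ_mk]
  exact Subtype.ext (same_action hD hprim h24 hz hx hxz hmem he hez).symm

end m24

end Cfsg.Agent.H32.M24Quad
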