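import Cfsg.Agent.H32.M24Quad.GQ

/-! A graph on 126 points with reflections, each neighbourhood being the polar graph of 45
isotropic points, is the tabulated one. -/

set_option autoImplicit false

namespace Cfsg.Agent.H32.M24Quad

open scoped Classical

theorem of_all {n : ℕ} {g : ℕ → Bool} (h : (List.range n).all g = true) {a : ℕ} (ha : a < n) :
    g a = true :=
  List.all_eq_true.mp h a (List.mem_range.2 ha)

theorem gadj_symm {a b : Fin 45} (h : gAdj a b = true) : gAdj b a = true := by
  rw [← (gAdj_basic a b).2]; exact h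

theorem gadj_ne {a b : Fin 45} (h : gAdj a b = true) : a ≠ b := by
  rintro rfl
  rw [(gAdj_basic a a).1] at h
  exact Bool.noConfusion h

theorem mem_lineL {a b : ℕ} {v : Fin 45} : (v : ℕ) ∈ lineL a b ↔
    (v : ℕ) = a ∨ (v : ℕ) = b ∨ (gAdj a v = true ∧ gAdj b v = true) := by
  simp [lineL, List.mem_filter, v.isLt]

theorem g_line {a b : Fin 45} (h : gAdj a b = true) : (lineL a b).length = 5 ∧
    (∀ x ∈ lineL a b, ∀ y ∈ lineL a b, x ≠ y → gAdj x y = true) ∧
    ∀ c : Fin 45, (c : ℕ) ∈ lineL a b ∨
      (lineL a b).countP (fun v => gAdj c v) = 1 := by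
  have := of_all (of_all chkLine_all a.isLt) b.isLt
  simp only [chkLine, h, Bool.not_true, Bool.false_or, Bool.and_eq_true, beq_iff_eq,
    List.all_eq_true, List.mem_range, Bool.or_eq_true, List.contains_iff_mem] at this
  exact ⟨this.1.1, fun x hx y hy hxy => (this.1.2 x hx y hy).resolve_left hxy,
    fun c => this.2 c c.isLt⟩

theorem g_pair {a b c d : Fin 45} (hab : gAdj a b = true) (hca : gAdj c a = true)
    (hcb : gAdj c b = true) (hda : gAdj d a = true) (hdb : gAdj d b = true) (hne : c ≠ d) :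
    gAdj c d = true :=
  (g_line hab).2.1 c (mem_lineL.2 (Or.inr (Or.inr ⟨gadj_symm hca, gadj_symm hcb⟩))) d
    (mem_lineL.2 (Or.inr (Or.inr ⟨gadj_symm hda, gadj_symm hdb⟩))) (fun e => hne (Fin.ext e))

theorem g_off {L : Fin 5 → Fin 45} (hL : ∀ i j, i ≠ j → gAdj (L i) (L j) = true) {c : Fin 45}
    (hc : ∀ i, c ≠ L i) :
    (Finset.univ.filter (fun i => gAdj c (L i) = true)).card = 1 := by
  obtain ⟨hlen, -, hoff⟩ := g_line (hL 0 1 (by decide))
  set l : List ℕ := (List.finRange 5).map (fun i => (L i : ℕ)) with hl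
  have hinj : Function.Injective (fun i => (L i : ℕ)) := fun i j e => by
    by_contra hne
    exact gadj_ne (hL i j hne) (Fin.ext e)
  have hnd : l.Nodup := (List.nodup_finRange 5).map hinj
  have hsub : l ⊆ lineL (L 0) (L 1) := by
    intro v hv
    simp only [hl, List.mem_map, List.mem_finRange, true_and] at hv
    obtain ⟨i, rfl⟩ := hv
    rcases eq_or_ne i 0 with rfl | h0
    · exact mem_lineL.2 (Or.inl rfl)
    rcases eq_or_ne i 1 with rfl | h1
    · exact mem_lineL.2 (Or.inr (Or.inl rfl))
    exact mem_lineL.2 (Or.inr (Or.inr ⟨hL 0 i (Ne.symm h0), hL 1 i (Ne.symm h1)⟩))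
  have hperm : l.Perm (lineL (L 0) (L 1)) :=
    (hnd.subperm hsub).perm_of_length_le (by rw [hlen]; simp [hl])
  have hcount : l.countP (fun v => gAdj c v) = 1 := by
    rw [hperm.countP_eq]
    refine (hoff c).resolve_left fun hm => ?_
    rw [← hperm.mem_iff] at hm
    simp only [hl, List.mem_map, List.mem_finRange, true_and] at hm
    obtain ⟨i, hi⟩ := hm
    exact hc i (Fin.ext hi.symm)
  rw [← hcount, hl, List.countP_map, List.countP_eq_length_filter, Finset.card_def,
    Finset.filter_val, Fin.univ_def, Multiset.filter_coe, Multiset.coe_card]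
  congr 1
  exact List.filter_congr (fun i _ => by simp)

/-- The third point of a pair. -/
def gopF (a b : Fin 45) : Fin 45 :=
  ⟨gOp a b, by
    have := of_all (of_all chkOp_all a.isLt) b.isLt
    simp only [chkOp, Bool.and_eq_true, decide_eq_true_eq] at this
    exact this.1⟩

theorem gop_fix {a b : Fin 45} (h : a = b ∨ gAdj a b = true) : gopF a b = b := by
  have := of_all (of_all chkOp_all a.isLt) b.isLt
  have hc : ((a : ℕ) == (b : ℕ) || gAdj a b) = true := by rcases h with h | h <;> simp [h]
  simp only [chkOp, hc, if_true, Bool.and_eq_true, beq_iff_eq] at this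
  exact Fin.ext this.2

theorem gop_moved {a b : Fin 45} (h1 : a ≠ b) (h2 : ¬gAdj a b = true) :
    gopF a b ≠ b ∧ gopF a (gopF a b) = b ∧
    ∀ c : Fin 45, c ≠ a → c ≠ b →
      (∀ v : Fin 45, gAdj a v = true → (gAdj c v = true ↔ gAdj b v = true)) → c = gopF a b := by
  have := of_all (of_all chkOp_all a.isLt) b.isLt
  have hc : ((a : ℕ) == (b : ℕ) || gAdj a b) = false := by
    simp [Fin.val_ne_iff.2 h1, h2]
  simp only [chkOp, hc, Bool.false_eq_true, if_false, Bool.and_eq_true, bne_iff_ne, ne_eq,
    beq_iff_eq, List.all_eq_true, List.mem_range, Bool.or_eq_true, Bool.not_eq_true',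
    beq_eq_false_iff_ne] at this
  obtain ⟨-, ⟨⟨⟨hb, -⟩, -⟩, hinv⟩, hun⟩ := this
  refine ⟨fun e => hb (congrArg Fin.val e), Fin.ext hinv, fun c hca hcb hv => ?_⟩
  rcases hun c c.isLt with ((e | e) | e) | e
  · exact absurd (Fin.ext e) hca
  · exact absurd (Fin.ext e) hcb
  · exact Fin.ext e
  refine absurd (Nat.eq_of_testBit_eq fun i => ?_) e
  rw [Nat.testBit_and, Nat.testBit_and]
  rcases lt_or_ge i 45 with hi | hi
  · cases hai : (gRows.getD a 0).testBit i
    · simp
    · simp only [Bool.and_true]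
      exact Bool.eq_iff_iff.2 (hv ⟨i, hi⟩ hai)
  · rw [Nat.testBit_eq_false_of_lt ((gRows_lt a).trans_le (Nat.pow_le_pow_right (by omega) hi))]
    simp

theorem gop_gop (a b : Fin 45) : gopF a (gopF a b) = b := by
  by_cases h : a = b ∨ gAdj a b = true
  · rw [gop_fix h, gop_fix h]
  · rw [not_or] at h
    exact (gop_moved h.1 h.2).2.1

theorem g_single {u x y v : Fin 45} (hux : u ≠ x) (huy : u ≠ y) (hxy : x ≠ y)
    (nux : ¬gAdj u x = true) (nuy : ¬gAdj u y = true)
    (hv : gAdj u v = true ∧ gAdj x v = true ∧ gAdj y v = true)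
    (hun : ∀ w : Fin 45, gAdj u w = true → gAdj x w = true → gAdj y w = true → w = v) :
    gAdj x y = true ∨ gAdj (gopF u x) y = true ∨ gopF u x = y := by
  have := of_all (of_all chkSingle_all u.isLt) x.isLt
  simp only [chkSingle, beq_iff_eq, Bool.or_eq_true, Fin.val_ne_iff.2 hux, nux, false_or, Bool.false_eq_true,
    List.all_eq_true, List.mem_range, Bool.not_eq_true'] at this
  have hm : gRows.getD u 0 &&& gRows.getD x 0 &&& gRows.getD y 0 = 2 ^ (v : ℕ) := by
    refine Nat.eq_of_testBit_eq fun i => Bool.eq_iff_iff.2 ?_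
    simp only [Nat.testBit_and, Bool.and_eq_true, Nat.testBit_two_pow, decide_eq_true_eq]
    constructor
    · rintro ⟨⟨h1, h2⟩, h3⟩
      rcases lt_or_ge i 45 with hi | hi
      · exact congrArg Fin.val (hun ⟨i, hi⟩ h1 h2 h3).symm
      · rw [Nat.testBit_eq_false_of_lt
          ((gRows_lt u).trans_le (Nat.pow_le_pow_right (by omega) hi))] at h1
        exact Bool.noConfusion h1
    · rintro rfl
      exact ⟨⟨hv.1, hv.2.1⟩, hv.2.2⟩
  rcases this y y.isLt with (((((h | h) | h) | h) | h) | h) | h
  · exact absurd (Fin.ext h) huy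
  · exact absurd (Fin.ext h) hxy
  · exact absurd h nuy
  · exact Or.inl h
  · exact Or.inr (Or.inl h)
  · exact Or.inr (Or.inr (Fin.ext h))
  · rw [hm, oneBit_pow v] at h
    exact Bool.noConfusion h

/-- The bit of a point in a trace. -/
def trBit (t : ℕ) (a : Fin 45) : Bool := (traces.getD t 0).testBit a

theorem trace_inj {i k : ℕ} (hi : i < 40) (hk : k < 40)
    (h : ∀ a, trBit i a = trBit k a) : i = k := by
  obtain ⟨hlen, hnd, hlt⟩ := traces_ok
  rw [List.all_eq_true] at hlt
  rw [← hlen] at hi hk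
  refine hnd.getElem_inj_iff.1 (Nat.eq_of_testBit_eq fun v => ?_ : traces[i] = traces[k])
  have hi' := hlt _ (List.getElem_mem hi)
  have hk' := hlt _ (List.getElem_mem hk)
  rw [decide_eq_true_eq] at hi' hk'
  rcases lt_or_ge v 45 with hv | hv
  · simpa [trBit, List.getD_eq_getElem?_getD, List.getElem?_eq_getElem hi,
      List.getElem?_eq_getElem hk] using h ⟨v, hv⟩
  · rw [Nat.testBit_eq_false_of_lt (hi'.trans_le (Nat.pow_le_pow_right (by omega) hv)),
      Nat.testBit_eq_false_of_lt (hk'.trans_le (Nat.pow_le_pow_right (by omega) hv))]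

theorem opMask_bit {a m : ℕ} {b : ℕ} :
    (opMask a m).testBit b = true ↔ ∃ v < 45, m.testBit v = true ∧ gOp a v = b := by
  have key : ∀ (l : List ℕ) (acc : ℕ),
      (l.foldl (fun acc v => if m.testBit v then acc ||| 2 ^ gOp a v else acc) acc).testBit b = true
      ↔ acc.testBit b = true ∨ ∃ v ∈ l, m.testBit v = true ∧ gOp a v = b := by
    intro l
    induction l with
    | nil => simp
    | cons x l ih =>
      intro acc
      rw [List.foldl_cons, ih]
      cases hx : m.testBit x <;>
        simp [hx, Nat.testBit_or, Nat.testBit_two_pow, or_assoc]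
  rw [opMask, key]
  simp [List.mem_range]

/-- What every set found by the search satisfies. -/
theorem search_sound (S : ℕ → Bool) (hlt : ∀ v, S v = true → v < 45)
    (hline : ∀ x, x < 45 → ∀ l ∈ gLines.getD x [], l.countP S = 2 ∧ l.length = 5)
    (hcl : ∀ a b, S a = true → S b = true → S (gOp a b) = true) :
    ∀ (rest : List ℕ) (inn out : ℕ) (inl : List ℕ), search rest inn out inl = true →
      (∀ v ∈ rest, v < 45) →
      (∀ v, inn.testBit v = true → S v = true) → (∀ v, out.testBit v = true → S v = false) →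
      (∀ v ∈ inl, S v = true) →
      (∀ v, v < 45 → inn.testBit v = true ∨ out.testBit v = true ∨ v ∈ rest) →
      ∃ T ∈ traces, ∀ v, T.testBit v = S v := by
  intro rest
  induction rest with
  | nil =>
    intro inn out inl hs _ hin hout _ hall
    refine ⟨inn, List.contains_iff_mem.1 (by simpa [search] using hs), fun v => ?_⟩
    cases hv : S v with
    | false =>
      by_contra h
      rw [Bool.not_eq_false] at h
      rw [hin v h] at hv
      exact Bool.noConfusion hv
    | true =>
      rcases hall v (hlt v hv) with h | h | h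
      · exact h
      · rw [hout v h] at hv; exact Bool.noConfusion hv
      · simp at h
  | cons x xs ih =>
    intro inn out inl hs hrest hin hout hinl hall
    rw [search, Bool.and_eq_true, Bool.or_eq_true, Bool.or_eq_true, Bool.or_eq_true,
      List.any_eq_true, List.any_eq_true, List.any_eq_true] at hs
    have hx : x < 45 := hrest x (by simp)
    have hall' : ∀ (m o : ℕ), (∀ v, inn.testBit v = true → m.testBit v = true) →
        (∀ v, out.testBit v = true → o.testBit v = true) →
        (m.testBit x = true ∨ o.testBit x = true) →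
        ∀ v, v < 45 → m.testBit v = true ∨ o.testBit v = true ∨ v ∈ xs := by
      intro m o hm ho hxm v hv
      rcases hall v hv with h | h | h
      · exact Or.inl (hm v h)
      · exact Or.inr (Or.inl (ho v h))
      · rcases List.mem_cons.1 h with rfl | h
        · exact hxm.imp_right Or.inl
        · exact Or.inr (Or.inr h)
    cases hSx : S x with
    | true =>
      have hin' : ∀ v, (inn ||| 2 ^ x).testBit v = true → S v = true := by
        intro v hv
        rw [Nat.testBit_or, Bool.or_eq_true, Nat.testBit_two_pow, decide_eq_true_eq] at hv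
        rcases hv with h | rfl
        exacts [hin v h, hSx]
      rcases hs.1 with (⟨l, hl, h⟩ | ⟨b, hb, h⟩) | h
      · rw [decide_eq_true_eq] at h
        have : inLine l (inn ||| 2 ^ x) ≤ l.countP S :=
          List.countP_mono_left (fun v _ hv => hin' v hv)
        have := (hline x hx l hl).1
        omega
      · rw [Bool.or_eq_true] at h
        rcases h with h | h
        · have := hout _ h
          rw [hcl x b hSx (hinl b hb)] at this
          exact Bool.noConfusion this
        · have := hout _ h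
          rw [hcl b x (hinl b hb) hSx] at this
          exact Bool.noConfusion this
      · exact ih _ out (x :: inl) h (fun v hv => hrest v (List.mem_cons_of_mem _ hv)) hin' hout
          (fun v hv => by rcases List.mem_cons.1 hv with rfl | hv; exacts [hSx, hinl v hv])
          (hall' _ _ (fun v hv => by simp [hv]) (fun v hv => hv)
            (Or.inl (by simp)))
    | false =>
      have hout' : ∀ v, (out ||| 2 ^ x).testBit v = true → S v = false := by
        intro v hv
        rw [Nat.testBit_or, Bool.or_eq_true, Nat.testBit_two_pow, decide_eq_true_eq] at hv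
        rcases hv with h | rfl
        exacts [hout v h, hSx]
      rcases hs.2 with ⟨l, hl, h⟩ | h
      · rw [decide_eq_true_eq] at h
        have h1 : inLine l (out ||| 2 ^ x) ≤ l.countP (fun v => !(S v)) :=
          List.countP_mono_left (fun v _ hv => by simp [hout' v hv])
        have h2 := List.length_eq_countP_add_countP (l := l) S
        obtain ⟨h3, h4⟩ := hline x hx l hl
        have h5 : l.countP (fun v => !(S v)) = l.countP (fun v => decide (¬S v = true)) :=
          List.countP_congr (fun v _ => by simp)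
        omega
      · exact ih inn _ inl h (fun v hv => hrest v (List.mem_cons_of_mem _ hv)) hin hout' hinl
          (hall' _ _ (fun v hv => hv) (fun v hv => by simp [hv]) (Or.inr (by simp)))

theorem attach_all (P : ℕ → Prop) : ∀ (l : List (ℕ × ℕ)) (seen : List ℕ),
    attachOK l seen = true → seen.Nodup → (∀ s ∈ seen, s < 40) →
    (∀ e ∈ l, P e.2 → P e.1) → (∀ s ∈ seen, P s) → ∀ t, t < 40 → P t := by
  intro l
  induction l with
  | nil =>
    intro seen h hnd hlt _ hP t ht
    have hlen : seen.length = 40 := by simpa [attachOK] using h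
    refine hP t (List.mem_toFinset.1 ?_)
    rw [Finset.eq_of_subset_of_card_le (s := seen.toFinset) (t := Finset.range 40)
      (fun s hs => Finset.mem_range.2 (hlt s (List.mem_toFinset.1 hs)))
      (by rw [List.toFinset_card_of_nodup hnd, hlen, Finset.card_range])]
    exact Finset.mem_range.2 ht
  | cons e l ih =>
    obtain ⟨k, i⟩ := e
    intro seen h hnd hlt hstep hP
    simp only [attachOK, Bool.and_eq_true, decide_eq_true_eq, Bool.not_eq_true',
      List.contains_iff_mem] at h
    obtain ⟨⟨⟨hk, hi⟩, hkn⟩, hrest⟩ := h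
    have hkn' : k ∉ seen := fun hm => by
      rw [List.contains_iff_mem.2 hm] at hkn; exact Bool.noConfusion hkn
    exact ih (k :: seen) hrest (List.nodup_cons.2 ⟨hkn', hnd⟩)
      (fun s hs => by rcases List.mem_cons.1 hs with rfl | hs; exacts [hk, hlt s hs])
      (fun e he => hstep e (List.mem_cons_of_mem _ he))
      (fun s hs => by
        rcases List.mem_cons.1 hs with rfl | hs
        exacts [hstep (s, i) (by simp) (hP i hi), hP s hs])

/-- A graph with reflections and the local graph of 45 points. -/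
structure Sys (Ω : Type*) where
  adj : Ω → Ω → Prop
  r : Ω → Equiv.Perm Ω
  card : Nat.card Ω = 126
  irrefl : ∀ x, ¬adj x x
  symm : ∀ {x y}, adj x y → adj y x
  r_adj : ∀ p {x y}, adj x y → adj (r p x) (r p y)
  r_invol : ∀ p x, r p (r p x) = x
  r_fix : ∀ p x, r p x = x ↔ x = p ∨ adj p x
  r_comm : ∀ {p q}, p ≠ q → ¬adj p q → r p q = r q p
  loc : ∀ p, ∃ f : Fin 45 → Ω, Function.Injective f ∧ (∀ x, adj p x ↔ x ∈ Set.range f) ∧
    ∀ a b, adj (f a) (f b) ↔ gAdj a b = true

/-- A numbering of the neighbours of a point. -/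
structure Frame45 {Ω : Type*} (S : Sys Ω) (q : Ω) where
  f : Fin 45 → Ω
  inj : Function.Injective f
  nbr : ∀ x, S.adj q x ↔ x ∈ Set.range f
  adj_iff : ∀ a b, S.adj (f a) (f b) ↔ gAdj a b = true

namespace Sys

variable {Ω : Type*} (S : Sys Ω)

include S in
theorem finite : Finite Ω := Nat.finite_of_card_ne_zero (by rw [S.card]; omega)

theorem adj_r_iff (p : Ω) {x y : Ω} : S.adj (S.r p x) (S.r p y) ↔ S.adj x y :=
  ⟨fun h => by simpa [S.r_invol] using S.r_adj p h, S.r_adj p⟩

theorem r_self (p : Ω) : S.r p p = p := (S.r_fix p p).2 (Or.inl rfl)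

theorem r_of_adj {p x : Ω} (h : S.adj p x) : S.r p x = x := (S.r_fix p x).2 (Or.inr h)

theorem frame (p : Ω) : Nonempty (Frame45 S p) :=
  let ⟨f, h1, h2, h3⟩ := S.loc p
  ⟨⟨f, h1, h2, h3⟩⟩

/-- Neither equal nor adjacent. -/
def Far (p x : Ω) : Prop := x ≠ p ∧ ¬S.adj p x

theorem far_r {p x : Ω} (h : S.Far p x) : S.Far p (S.r p x) := by
  constructor
  · intro e
    apply h.1
    have := congrArg (S.r p) e
    rwa [S.r_invol, S.r_self] at this
  · intro e
    apply h.2
    have := S.r_adj p e
    rwa [S.r_self, S.r_invol] at this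

theorem r_far_ne {p x : Ω} (h : S.Far p x) : S.r p x ≠ x := fun e => by
  rcases (S.r_fix p x).1 e with h' | h'
  exacts [h.1 h', h.2 h']

theorem adj_r_far {p a x : Ω} (ha : S.adj p a) : S.adj (S.r p x) a ↔ S.adj x a := by
  conv_lhs => rw [← S.r_of_adj ha]
  exact S.adj_r_iff p

theorem not_both {p x y : Ω} (hx : S.Far p x) (hy : S.Far p y) (h : S.adj x y) :
    ¬S.adj x (S.r p y) := by
  intro h'
  rw [S.r_comm (Ne.symm hy.1) hy.2] at h'
  have := S.r_adj y h'
  rw [S.r_of_adj (S.symm h), S.r_invol] at this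
  exact hx.2 (S.symm this)

theorem card_nbr (p : Ω) [Fintype Ω] : (Finset.univ.filter (fun x => S.adj p x)).card = 45 := by
  obtain ⟨F⟩ := S.frame p
  have : (Finset.univ.filter (fun x => S.adj p x)) = Finset.univ.image F.f := by
    ext x; simp [F.nbr x]
  rw [this, Finset.card_image_of_injective _ F.inj]
  simp

theorem hexad_of_adj {K : Fin 6 → Ω} (hK : ∀ i j, i ≠ j → S.adj (K i) (K j)) {x : Ω}
    (hx : ∀ i, x ≠ K i) {i : Fin 6} (hi : S.adj x (K i)) :
    (Finset.univ.filter (fun j => S.adj x (K j))).card = 2 := by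
  obtain ⟨F⟩ := S.frame (K i)
  have hmem : ∀ j : Fin 5, K (i.succAbove j) ∈ Set.range F.f :=
    fun j => (F.nbr _).1 (hK _ _ (Fin.succAbove_ne i j).symm)
  choose L hL using hmem
  obtain ⟨c, hc⟩ := (F.nbr x).1 (S.symm hi)
  have h1 := g_off (L := L) (c := c)
    (fun a b hab => by
      rw [← F.adj_iff, hL, hL]
      exact hK _ _ (fun e => hab (Fin.succAbove_right_injective e)))
    (fun a e => hx (i.succAbove a) (by rw [← hc, e, hL]))
  have : (Finset.univ.filter (fun j => S.adj x (K j))) = insert i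
      ((Finset.univ.filter (fun a => gAdj c (L a) = true)).image i.succAbove) := by
    ext j
    simp only [Finset.mem_filter, Finset.mem_univ, true_and, Finset.mem_insert, Finset.mem_image]
    rcases Fin.eq_self_or_eq_succAbove i j with rfl | ⟨a, rfl⟩
    · simp [hi]
    · have : (i.succAbove a = i) ↔ False := iff_false_intro (Fin.succAbove_ne i a)
      rw [this, false_or]
      constructor
      · intro h
        exact ⟨a, by rwa [← F.adj_iff, hL, hc], rfl⟩
      · rintro ⟨b, hb, he⟩
        rw [← he, ← hL, ← hc, F.adj_iff]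
        exact hb
  rw [this, Finset.card_insert_of_notMem, Finset.card_image_of_injective _
    Fin.succAbove_right_injective, h1]
  simp [Fin.succAbove_ne]

theorem hexad {K : Fin 6 → Ω} (hK : ∀ i j, i ≠ j → S.adj (K i) (K j)) {x : Ω}
    (hx : ∀ i, x ≠ K i) : (Finset.univ.filter (fun j => S.adj x (K j))).card = 2 := by
  haveI := S.finite
  haveI := Fintype.ofFinite Ω
  have hinj : Function.Injective K := fun i j e => by
    by_contra h
    exact S.irrefl _ (e ▸ hK i j h)
  set O := (Finset.univ : Finset Ω) \ Finset.univ.image K with hO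
  have hOc : O.card = 120 := by
    rw [hO, Finset.card_sdiff_of_subset (Finset.subset_univ _),
      Finset.card_image_of_injective _ hinj,
      Finset.card_univ, ← Nat.card_eq_fintype_card, S.card]
    simp
  have hmem : ∀ y, y ∈ O ↔ ∀ i, y ≠ K i := by
    intro y; simp [hO, eq_comm]
  have hrow : ∀ i, (O.filter (fun y => S.adj y (K i))).card = 40 := by
    intro i
    have : O.filter (fun y => S.adj y (K i)) =
        (Finset.univ.filter (fun y => S.adj (K i) y)) \
          ((Finset.univ.erase i).image K) := by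
      ext y
      simp only [Finset.mem_filter, Finset.mem_sdiff, Finset.mem_univ, true_and, hmem,
        Finset.mem_image, Finset.mem_erase, and_true, not_exists, not_and]
      constructor
      · exact fun h => ⟨S.symm h.2, fun j _ e => h.1 j e.symm⟩
      · rintro ⟨h, h'⟩
        refine ⟨fun j e => ?_, S.symm h⟩
        rcases eq_or_ne j i with rfl | hji
        · exact S.irrefl _ (e ▸ h)
        · exact h' j hji e.symm
    rw [this, Finset.card_sdiff_of_subset, S.card_nbr, Finset.card_image_of_injective _ hinj]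
    · simp
    · intro y hy
      simp only [Finset.mem_image, Finset.mem_erase, Finset.mem_univ, and_true] at hy
      obtain ⟨j, hj, rfl⟩ := hy
      exact Finset.mem_filter.2 ⟨Finset.mem_univ _, hK i j hj.symm⟩
  have hsum : ∑ y ∈ O, (Finset.univ.filter (fun j => S.adj y (K j))).card = 240 := by
    simp only [Finset.card_filter]
    rw [Finset.sum_comm]
    simp only [← Finset.card_filter, hrow]
    simp
  have hle : ∀ y ∈ O, (Finset.univ.filter (fun j => S.adj y (K j))).card ≤ 2 := by
    intro y hy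
    by_contra hc
    obtain ⟨i, hi⟩ := Finset.card_pos.1 (show 0 < _ from Nat.lt_of_lt_of_le (by omega)
      (Nat.le_of_lt (Nat.lt_of_not_ge hc)))
    rw [Finset.mem_filter] at hi
    exact hc (le_of_eq (S.hexad_of_adj hK ((hmem y).1 hy) hi.2))
  have heq := (Finset.sum_eq_sum_iff_of_le hle).1 (by rw [hsum, Finset.sum_const, hOc]; rfl)
  exact heq x ((hmem x).2 hx)

end Sys

namespace Frame45

variable {Ω : Type*} {S : Sys Ω} {q : Ω} (F : Frame45 S q)

theorem adj_f (a : Fin 45) : S.adj q (F.f a) := (F.nbr _).2 ⟨a, rfl⟩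

theorem r_f (a b : Fin 45) : S.r (F.f a) (F.f b) = F.f (gopF a b) := by
  by_cases h : a = b ∨ gAdj a b = true
  · rw [gop_fix h, S.r_fix]
    exact h.imp (fun e => by rw [e]) (F.adj_iff a b).2
  rw [not_or] at h
  obtain ⟨hb, -, hun⟩ := gop_moved h.1 h.2
  have hq : S.adj q (S.r (F.f a) (F.f b)) := by
    have := S.r_adj (F.f a) (F.adj_f b)
    rwa [S.r_of_adj (S.symm (F.adj_f a))] at this
  obtain ⟨c, hc⟩ := (F.nbr _).1 hq
  rw [← hc]
  congr 1
  refine hun c ?_ ?_ ?_
  · intro e
    rw [e] at hc
    have := congrArg (S.r (F.f a)) hc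
    rw [S.r_invol, S.r_self] at this
    exact h.1 (F.inj this)
  · intro e
    rw [e] at hc
    rcases (S.r_fix _ _).1 hc.symm with h' | h'
    · exact h.1 (F.inj h').symm
    · exact h.2 ((F.adj_iff a b).1 h')
  · intro v hv
    rw [← F.adj_iff c, ← F.adj_iff b, hc, ← S.r_of_adj ((F.adj_iff a v).2 hv), S.adj_r_iff,
      S.r_of_adj ((F.adj_iff a v).2 hv)]

/-- A far point with a given trace. -/
def HasTr (x : Ω) (t : ℕ) : Prop :=
  S.Far q x ∧ ∀ a, S.adj x (F.f a) ↔ trBit t a = true

theorem hasTr_unique {x : Ω} {i k : ℕ} (hi : i < 40) (hk : k < 40) (h1 : F.HasTr x i)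
    (h2 : F.HasTr x k) : i = k :=
  trace_inj hi hk (fun a => Bool.eq_iff_iff.2 ((h1.2 a).symm.trans (h2.2 a)))

theorem hasTr_r {x : Ω} {t : ℕ} (h : F.HasTr x t) : F.HasTr (S.r q x) t :=
  ⟨S.far_r h.1, fun a => by rw [S.adj_r_far (F.adj_f a), h.2]⟩

theorem exists_tr {x : Ω} (hx : S.Far q x) : ∃ t < 40, F.HasTr x t := by
  let s : ℕ → Bool := fun v => decide (∃ h : v < 45, S.adj x (F.f ⟨v, h⟩))
  have hs : ∀ a : Fin 45, s a = true ↔ S.adj x (F.f a) := by intro a; simp [s, a.isLt]
  have hline : ∀ v, v < 45 → ∀ l ∈ gLines.getD v [], l.countP s = 2 ∧ l.length = 5 := by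
    intro v hv l hl
    have := gLines_ok ⟨v, hv⟩
    simp only [List.all_eq_true, Bool.and_eq_true, beq_iff_eq, decide_eq_true_eq,
      Bool.or_eq_true] at this
    obtain ⟨⟨hlen, hnd⟩, hl'⟩ := this l hl
    refine ⟨?_, hlen⟩
    let L : Fin 5 → Fin 45 := fun i =>
      ⟨l.get (Fin.cast hlen.symm i), (hl' _ (l.get_mem _)).1⟩
    have hLadj : ∀ i j, i ≠ j → gAdj (L i) (L j) = true := fun i j hij =>
      ((hl' _ (l.get_mem _)).2 _ (l.get_mem _)).resolve_left fun e =>
        hij (Fin.cast_injective _ (hnd.get_inj_iff.1 e))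
    let K : Fin 6 → Ω := Fin.cons q (fun i => F.f (L i))
    have hK : ∀ i j, i ≠ j → S.adj (K i) (K j) := by
      intro i j hij
      refine Fin.cases (fun j hij => ?_) (fun i j hij => ?_) i j hij
      · refine Fin.cases (fun hij => absurd rfl hij) (fun j _ => ?_) j hij
        simpa [K] using F.adj_f (L j)
      · refine Fin.cases (fun _ => ?_) (fun j hij => ?_) j hij
        · simpa [K] using S.symm (F.adj_f (L i))
        · simpa [K, F.adj_iff] using hLadj i j (fun e => hij (by rw [e]))
    have h2 := S.hexad hK (x := x) (fun i => by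
      refine Fin.cases ?_ (fun i => ?_) i
      · simpa [K] using hx.1
      · intro e
        exact hx.2 (e ▸ (by simpa [K] using F.adj_f (L i))))
    rw [Finset.card_filter, Fin.sum_univ_succ] at h2
    have hq : ¬S.adj x q := fun h => hx.2 (S.symm h)
    simp only [K, Fin.cons_zero, if_neg hq, zero_add, Fin.cons_succ, ← Finset.card_filter] at h2
    rw [← h2]
    have hl2 : l = (List.finRange 5).map (fun i => (L i : ℕ)) := by
      apply List.ext_getElem <;> simp [hlen, L]
    rw [hl2, List.countP_map, List.countP_eq_length_filter, Finset.card_def, Finset.filter_val,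
      Fin.univ_def, Multiset.filter_coe, Multiset.coe_card]
    congr 1
    exact List.filter_congr (fun i _ => Bool.eq_iff_iff.2 (by simp [hs]))
  have hcl : ∀ a b, s a = true → s b = true → s (gOp a b) = true := by
    intro a b ha hb
    simp only [s, decide_eq_true_eq] at ha hb
    obtain ⟨ha', ha⟩ := ha
    obtain ⟨hb', hb⟩ := hb
    have := S.r_adj (F.f ⟨a, ha'⟩) hb
    rw [S.r_of_adj (S.symm ha), F.r_f] at this
    exact (hs (gopF ⟨a, ha'⟩ ⟨b, hb'⟩)).2 this
  have hord : ∀ v ∈ gOrder, v < 45 := by decide +kernel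
  obtain ⟨T, hT, hTs⟩ := search_sound s
    (fun v hv => by simp only [s, decide_eq_true_eq] at hv; exact hv.1) hline hcl gOrder 0 0 []
    search_ok hord (by simp) (by simp) (by simp)
    (fun v hv => Or.inr (Or.inr (List.contains_iff_mem.1 (gOrder_all ⟨v, hv⟩))))
  obtain ⟨t, ht, rfl⟩ := List.mem_iff_getElem.1 hT
  refine ⟨t, by rwa [← traces_ok.1], hx, fun a => ?_⟩
  rw [← hs, ← hTs, trBit, List.getD_eq_getElem?_getD, List.getElem?_eq_getElem ht]
  rfl

theorem hasTr_move {x : Ω} {i k : ℕ} {a : Fin 45}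
    (hm : opMask a (traces.getD i 0) = traces.getD k 0) (h : F.HasTr x i) :
    F.HasTr (S.r (F.f a) x) k := by
  have hfix : S.r (F.f a) q = q := S.r_of_adj (S.symm (F.adj_f a))
  refine ⟨⟨fun e => h.1.1 ?_, fun e => h.1.2 ?_⟩, fun b => ?_⟩
  · have := congrArg (S.r (F.f a)) e
    rwa [S.r_invol, hfix] at this
  · have := S.r_adj (F.f a) e
    rwa [S.r_invol, hfix] at this
  · rw [← gop_gop a b, ← F.r_f, S.adj_r_iff, h.2, trBit, trBit, ← hm, opMask_bit, gop_gop]
    constructor
    · exact fun hb => ⟨_, (gopF a b).isLt, hb, congrArg Fin.val (gop_gop a b)⟩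
    · rintro ⟨v, hv, hb, he⟩
      have hvb : gopF a ⟨v, hv⟩ = b := Fin.ext he
      rw [← hvb, gop_gop]
      exact hb

theorem exists_point (t : ℕ) (ht : t < 40) : ∃ x, F.HasTr x t := by
  haveI := S.finite
  haveI := Fintype.ofFinite Ω
  have hex : ∃ x, S.Far q x := by
    by_contra hno
    simp only [Sys.Far, not_exists, not_and, not_not] at hno
    have : Finset.univ ⊆ insert q (Finset.univ.filter (fun x => S.adj q x)) := by
      intro x _
      by_cases e : x = q
      · simp [e]
      · simp [hno x e]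
    have := (Finset.card_le_card this).trans (Finset.card_insert_le _ _)
    rw [S.card_nbr, Finset.card_univ, ← Nat.card_eq_fintype_card, S.card] at this
    omega
  obtain ⟨x, hx⟩ := hex
  obtain ⟨t₀, ht₀, hx⟩ := F.exists_tr hx
  obtain ⟨htree, hops⟩ := traceTree_ok
  rw [List.all_eq_true] at hops
  have hmove : ∀ p ∈ traceTree, ∀ y, (F.HasTr y p.2.1 → ∃ z, F.HasTr z p.1) ∧
      (F.HasTr y p.1 → ∃ z, F.HasTr z p.2.1) := by
    intro p hp y
    have := hops p hp
    simp only [Bool.and_eq_true, decide_eq_true_eq, beq_iff_eq] at this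
    obtain ⟨hp', hm⟩ := this
    refine ⟨fun h => ⟨_, F.hasTr_move (a := ⟨p.2.2, hp'⟩) hm h⟩, fun h => ?_⟩
    refine ⟨S.r (F.f ⟨p.2.2, hp'⟩) y, ?_⟩
    have hfix : S.r (F.f ⟨p.2.2, hp'⟩) q = q := S.r_of_adj (S.symm (F.adj_f _))
    refine ⟨⟨fun e => h.1.1 ?_, fun e => h.1.2 ?_⟩, fun b => ?_⟩
    · have := congrArg (S.r (F.f ⟨p.2.2, hp'⟩)) e
      rwa [S.r_invol, hfix] at this
    · have := S.r_adj (F.f ⟨p.2.2, hp'⟩) e
      rwa [S.r_invol, hfix] at this
    · rw [← gop_gop ⟨p.2.2, hp'⟩ b, ← F.r_f, S.adj_r_iff, h.2, trBit, trBit, ← hm,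
        opMask_bit, gop_gop]
      constructor
      · rintro ⟨v, hv, hb, he⟩
        have : gopF ⟨p.2.2, hp'⟩ ⟨v, hv⟩ = gopF ⟨p.2.2, hp'⟩ b := Fin.ext he
        have := congrArg (gopF ⟨p.2.2, hp'⟩) this
        rw [gop_gop, gop_gop] at this
        rwa [← this]
      · exact fun hb => ⟨b, b.isLt, hb, rfl⟩
  refine attach_all (fun t => ∃ x, F.HasTr x t) _ [0] htree (by simp) (by simp) ?_ ?_ t ht
  · intro e he
    simp only [List.mem_map] at he
    obtain ⟨p, hp, rfl⟩ := he
    exact fun ⟨y, hy⟩ => (hmove p hp y).1 hy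
  · intro s hs
    rw [List.mem_singleton] at hs
    subst hs
    refine attach_all (fun t => (∃ x, F.HasTr x t) → ∃ x, F.HasTr x 0) _ [0] htree (by simp)
      (by simp) ?_ ?_ t₀ ht₀ ⟨x, hx⟩
    · intro e he
      simp only [List.mem_map] at he
      obtain ⟨p, hp, rfl⟩ := he
      exact fun hi ⟨y, hy⟩ => hi ((hmove p hp y).2 hy)
    · simp only [List.mem_singleton, forall_eq]
      exact id

/-- At most two points have one trace. -/
theorem two {x y : Ω} {t : ℕ} (ht : t < 40) (hx : F.HasTr x t) (hy : F.HasTr y t) :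
    y = x ∨ y = S.r q x := by
  haveI := S.finite
  haveI := Fintype.ofFinite Ω
  let A : ℕ → Finset Ω := fun i => Finset.univ.filter (fun z => F.HasTr z i)
  have hge : ∀ i ∈ Finset.range 40, 2 ≤ (A i).card := by
    intro i hi
    obtain ⟨z, hz⟩ := F.exists_point i (Finset.mem_range.1 hi)
    refine le_trans (le_of_eq (Finset.card_pair (S.r_far_ne hz.1).symm).symm)
      (Finset.card_le_card ?_)
    intro w hw
    simp only [Finset.mem_insert, Finset.mem_singleton] at hw
    rcases hw with rfl | rfl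
    · simp [A, hz]
    · simp [A, F.hasTr_r hz]
  have hsum : ∑ i ∈ Finset.range 40, (A i).card ≤ 80 := by
    rw [← Finset.card_biUnion]
    · refine (Finset.card_le_card (t := (Finset.univ : Finset Ω) \
        insert q (Finset.univ.filter (fun z => S.adj q z))) ?_).trans (le_of_eq ?_)
      · intro z hz
        simp only [Finset.mem_biUnion, A, Finset.mem_filter] at hz
        obtain ⟨i, -, -, hz⟩ := hz
        simp [hz.1.1, hz.1.2]
      · rw [Finset.card_sdiff_of_subset (Finset.subset_univ _),
          Finset.card_insert_of_notMem (by simp [S.irrefl]), S.card_nbr, Finset.card_univ,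
          ← Nat.card_eq_fintype_card, S.card]
    · intro i hi k hk hik
      simp only [Function.onFun, Finset.disjoint_left, A, Finset.mem_filter]
      exact fun z hz hz' => hik (F.hasTr_unique (Finset.mem_range.1 hi) (Finset.mem_range.1 hk)
        hz.2 hz'.2)
  have heq : (A t).card = 2 := by
    by_contra hne
    have : ∑ _i ∈ Finset.range 40, 2 < ∑ i ∈ Finset.range 40, (A i).card :=
      Finset.sum_lt_sum hge ⟨t, Finset.mem_range.2 ht,
        lt_of_le_of_ne (hge t (Finset.mem_range.2 ht)) (Ne.symm hne)⟩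
    simp at this
    omega
  have hpair : ({x, S.r q x} : Finset Ω) = A t := by
    refine Finset.eq_of_subset_of_card_le ?_ ?_
    · intro w hw
      simp only [Finset.mem_insert, Finset.mem_singleton] at hw
      rcases hw with rfl | rfl
      · simp [A, hx]
      · simp [A, F.hasTr_r hx]
    · rw [heq, Finset.card_pair (S.r_far_ne hx.1).symm]
  have : y ∈ A t := by simp [A, hy]
  rwa [← hpair, Finset.mem_insert, Finset.mem_singleton] at this

theorem edge_or {x y : Ω} {i k a w : ℕ} (hx : F.HasTr x i) (hy : F.HasTr y k) (hik : i ≠ k)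
    (hw : witOK i k a w = true) : S.adj x y ∨ S.adj x (S.r q y) := by
  simp only [witOK, Bool.and_eq_true, decide_eq_true_eq, beq_iff_eq] at hw
  obtain ⟨⟨⟨⟨⟨⟨hi, hk⟩, ha⟩, hw⟩, hai⟩, hak⟩, hm⟩ := hw
  set a' : Fin 45 := ⟨a, ha⟩
  set w' : Fin 45 := ⟨w, hw⟩
  have hwm : trBit i w' = true ∧ trBit k w' = true ∧ gAdj a' w' = true := by
    have := congrArg (fun m => m.testBit w) hm
    simp only [Nat.testBit_and, Nat.testBit_two_pow_self, Bool.and_eq_true] at this
    exact ⟨this.1.1, this.1.2, this.2⟩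
  obtain ⟨G⟩ := S.frame (F.f a')
  obtain ⟨u, hu⟩ := (G.nbr q).1 (S.symm (F.adj_f a'))
  obtain ⟨x', hx'⟩ := (G.nbr x).1 (S.symm ((hx.2 a').2 hai))
  obtain ⟨y', hy'⟩ := (G.nbr y).1 (S.symm ((hy.2 a').2 hak))
  obtain ⟨v, hv⟩ := (G.nbr (F.f w')).1 ((F.adj_iff a' w').2 hwm.2.2)
  have hne : ∀ z : Ω, F.HasTr z i → F.HasTr z k → False :=
    fun z h1 h2 => hik (F.hasTr_unique hi hk h1 h2)
  rcases g_single (u := u) (x := x') (y := y') (v := v)
      (fun e => hx.1.1 (by rw [← hx', ← e, hu]))
      (fun e => hy.1.1 (by rw [← hy', ← e, hu]))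
      (fun e => hne x hx (by rw [← hx', e, hy']; exact hy))
      (by rw [← G.adj_iff, hu, hx']; exact hx.1.2)
      (by rw [← G.adj_iff, hu, hy']; exact hy.1.2)
      (by
        refine ⟨?_, ?_, ?_⟩ <;> rw [← G.adj_iff, hv]
        · rw [hu]; exact F.adj_f w'
        · rw [hx']; exact (hx.2 w').2 hwm.1
        · rw [hy']; exact (hy.2 w').2 hwm.2.1)
      (by
        intro z h1 h2 h3
        rw [← G.adj_iff, hu] at h1
        rw [← G.adj_iff, hx'] at h2
        rw [← G.adj_iff, hy'] at h3
        obtain ⟨z', hz'⟩ := (F.nbr _).1 h1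
        rw [← hz', hx.2] at h2
        rw [← hz', hy.2] at h3
        have h4 : gAdj a' z' = true := by rw [← F.adj_iff, hz']; exact G.adj_f z
        have : z' = w' := by
          apply Fin.ext
          have hb := congrArg (fun m => m.testBit (z' : ℕ)) hm
          simp only [Nat.testBit_and, Nat.testBit_two_pow] at hb
          rw [trBit] at h2 h3
          rw [gAdj] at h4
          rw [h2, h3, h4] at hb
          exact (by simpa using hb : w = (z' : ℕ)).symm
        apply G.inj
        rw [← hz', this, hv]) with h | h | h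
  · left
    rwa [← G.adj_iff, hx', hy'] at h
  · right
    rw [← G.adj_iff, ← G.r_f, hu, hx', hy'] at h
    have := S.r_adj q h
    rwa [S.r_invol] at this
  · exfalso
    have : S.r q x = y := by rw [← hu, ← hx', G.r_f, h, hy']
    exact hne y (this ▸ F.hasTr_r hx) hy

theorem exists_labels : ∃ X : ℕ → Ω, (∀ t < 40, F.HasTr (X t) t) ∧
    ∀ e ∈ edgeTree, S.adj (X (e.getD 0 0))
      (if e.getD 2 0 = 0 then X (e.getD 1 0) else S.r q (X (e.getD 1 0))) := by
  obtain ⟨htree, hall⟩ := edgeTree_ok
  rw [List.all_eq_true] at hall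
  have key : ∀ (l : List (List ℕ)) (seen : List ℕ) (X : ℕ → Ω),
      attachOK (l.map fun e => (e.getD 1 0, e.getD 0 0)) seen = true → seen.Nodup →
      (∀ s ∈ seen, s < 40) → (∀ e ∈ l, e ∈ edgeTree) → (∀ s ∈ seen, F.HasTr (X s) s) →
      ∃ X' : ℕ → Ω, (∀ s ∈ seen, X' s = X s) ∧ (∀ t < 40, F.HasTr (X' t) t) ∧
        ∀ e ∈ l, S.adj (X' (e.getD 0 0))
          (if e.getD 2 0 = 0 then X' (e.getD 1 0) else S.r q (X' (e.getD 1 0))) := by
    intro l
    induction l with
    | nil =>
      intro seen X h hnd hlt _ hX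
      refine ⟨X, fun _ _ => rfl, ?_, by simp⟩
      exact attach_all (fun t => F.HasTr (X t) t) [] seen h hnd hlt (by simp) hX
    | cons e l ih =>
      intro seen X h hnd hlt hl hX
      simp only [List.map_cons, attachOK, Bool.and_eq_true, decide_eq_true_eq, Bool.not_eq_true',
        List.contains_iff_mem] at h
      obtain ⟨⟨⟨hk, hi⟩, hkn⟩, hrest⟩ := h
      set i := e.getD 0 0
      set k := e.getD 1 0
      have hkn' : k ∉ seen := fun hm => by
        rw [List.contains_iff_mem.2 hm] at hkn; exact Bool.noConfusion hkn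
      have he := hall e (hl e (by simp))
      simp only [Bool.and_eq_true, bne_iff_ne, ne_eq, decide_eq_true_eq] at he
      obtain ⟨y, hy⟩ := F.exists_point k hk
      have hor := F.edge_or (hX i hi) hy he.1.1.1 he.1.2
      obtain ⟨Y, hY, hadj⟩ : ∃ Y, F.HasTr Y k ∧
          S.adj (X i) (if e.getD 2 0 = 0 then Y else S.r q Y) := by
        rcases hor with h | h <;> by_cases hb : e.getD 2 0 = 0
        · exact ⟨y, hy, by rwa [if_pos hb]⟩
        · exact ⟨_, F.hasTr_r hy, by rwa [if_neg hb, S.r_invol]⟩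
        · exact ⟨_, F.hasTr_r hy, by rwa [if_pos hb]⟩
        · exact ⟨y, hy, by rwa [if_neg hb]⟩
      have hupd : ∀ s ∈ seen, Function.update X k Y s = X s := fun s hs =>
        Function.update_of_ne (fun eq => hkn' (by rw [← eq]; exact hs)) _ _
      obtain ⟨X', h1, h2, h3⟩ := ih (k :: seen) (Function.update X k Y) hrest
        (List.nodup_cons.2 ⟨hkn', hnd⟩)
        (fun s hs => by rcases List.mem_cons.1 hs with rfl | hs; exacts [hk, hlt s hs])
        (fun e' he' => hl e' (List.mem_cons_of_mem _ he'))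
        (fun s hs => by
          rcases List.mem_cons.1 hs with rfl | hs
          · rwa [Function.update_self]
          · rw [hupd s hs]; exact hX s hs)
      refine ⟨X', fun s hs => by rw [h1 s (List.mem_cons_of_mem _ hs), hupd s hs], h2, ?_⟩
      intro e' he'
      rcases List.mem_cons.1 he' with rfl | he'
      · rw [h1 i (List.mem_cons_of_mem _ hi), h1 k (List.mem_cons_self ..), hupd i hi,
          Function.update_self]
        exact hadj
      · exact h3 e' he'
  obtain ⟨x₀, hx₀⟩ := F.exists_point 0 (by omega)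
  obtain ⟨X, -, h2, h3⟩ := key edgeTree [0] (fun _ => x₀) htree (by simp) (by simp)
    (fun e he => he) (by simp [hx₀])
  exact ⟨X, h2, h3⟩

/-- The point with a given number. -/
def pt (X : ℕ → Ω) (v : ℕ) : Ω :=
  if v = 0 then q else if v < 46 then F.f ⟨(v - 1) % 45, Nat.mod_lt _ (by omega)⟩
  else if v < 86 then X (v - 46) else S.r q (X (v - 86))

variable {X : ℕ → Ω}

theorem pt_near (a : Fin 45) : F.pt X (1 + a) = F.f a := by
  have := a.isLt
  simp [pt, show 1 + (a : ℕ) < 46 by omega, Nat.mod_eq_of_lt this]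

theorem pt_far {v : ℕ} (hX : ∀ t < 40, F.HasTr (X t) t) (h1 : 46 ≤ v) (h2 : v < 126) :
    F.HasTr (F.pt X v) (tix v) ∧ tix v < 40 := by
  by_cases h : v < 86
  · simp only [pt, tix, h, if_true, if_neg (show ¬v = 0 by omega), if_neg (show ¬v < 46 by omega)]
    exact ⟨hX _ (by omega), by omega⟩
  · simp only [pt, tix, h, if_false, if_neg (show ¬v = 0 by omega), if_neg (show ¬v < 46 by omega)]
    exact ⟨F.hasTr_r (hX _ (by omega)), by omega⟩

theorem pt_r0 {v : ℕ} (hv : v < 126) : F.pt X (r0i v) = S.r q (F.pt X v) := by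
  unfold r0i
  by_cases h1 : v < 46
  · rw [if_pos h1]
    refine ((S.r_fix _ _).2 ?_).symm
    by_cases h0 : v = 0
    · exact Or.inl (by simp [pt, h0])
    · exact Or.inr (by simp [pt, h0, h1, F.adj_f])
  · rw [if_neg h1]
    by_cases h2 : v < 86
    · simp [pt, h2, show v ≠ 0 by omega, show ¬v < 46 by omega, show ¬v + 40 < 46 by omega,
        show ¬v + 40 < 86 by omega]
    · simp [pt, h2, S.r_invol, show v ≠ 0 by omega, show ¬v < 46 by omega,
        show v - 40 ≠ 0 by omega, show ¬v - 40 < 46 by omega, show v - 40 < 86 by omega,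
        show v - 40 - 46 = v - 86 by omega]

theorem r0i_lt {v : ℕ} (hv : v < 126) : r0i v < 126 := by
  unfold r0i; split_ifs <;> omega

theorem pt_inj (hX : ∀ t < 40, F.HasTr (X t) t) :
    Function.Injective (fun v : Fin 126 => F.pt X v) := by
  have hcase : ∀ v : Fin 126, (v : ℕ) = 0 ∨ (∃ a : Fin 45, (v : ℕ) = 1 + a) ∨ 46 ≤ (v : ℕ) := by
    intro v
    rcases Nat.lt_or_ge (v : ℕ) 46 with h | h
    · rcases Nat.eq_zero_or_pos (v : ℕ) with h0 | h0
      · exact Or.inl h0
      · exact Or.inr (Or.inl ⟨⟨(v : ℕ) - 1, by omega⟩, by simp; omega⟩)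
    · exact Or.inr (Or.inr h)
  have hkind : ∀ v : Fin 126, ((v : ℕ) = 0 ↔ F.pt X v = q) ∧
      ((∃ a : Fin 45, (v : ℕ) = 1 + a) ↔ S.adj q (F.pt X v)) := by
    intro v
    rcases hcase v with h | ⟨a, h⟩ | h
    · exact ⟨by simp [h, pt], ⟨fun ⟨a, ha⟩ => by omega,
        fun h' => absurd (by simpa [h, pt] using h') (S.irrefl q)⟩⟩
    · rw [h, pt_near]
      exact ⟨⟨fun e => by omega, fun e => absurd (F.adj_f a) (by rw [e]; exact S.irrefl q)⟩,
        ⟨fun _ => F.adj_f a, fun _ => ⟨a, rfl⟩⟩⟩
    · obtain ⟨⟨hf, -⟩, -⟩ := F.pt_far hX h v.isLt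
      exact ⟨⟨fun e => by omega, fun e => absurd e hf.1⟩,
        ⟨fun ⟨a, ha⟩ => by have := a.isLt; omega, fun e => absurd e hf.2⟩⟩
  intro u v he
  simp only at he
  apply Fin.ext
  rcases hcase u with h | ⟨a, h⟩ | h
  · rw [h, (hkind v).1.2 (he ▸ (hkind u).1.1 h)]
  · obtain ⟨b, hb⟩ := (hkind v).2.2 (he ▸ (hkind u).2.1 ⟨a, h⟩)
    rw [h, hb, pt_near, pt_near] at he
    rw [h, hb, F.inj he]
  · rcases hcase v with h' | ⟨a, h'⟩ | h'
    · rw [(hkind u).1.2 (he.symm ▸ (hkind v).1.1 h'), h']
    · obtain ⟨b, hb⟩ := (hkind u).2.2 (he.symm ▸ (hkind v).2.1 ⟨a, h'⟩)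
      omega
    · have hu := F.pt_far hX h u.isLt
      have hv := F.pt_far hX h' v.isLt
      have ht := F.hasTr_unique hu.2 hv.2 hu.1 (he ▸ hv.1)
      by_contra hne
      have : (v : ℕ) = r0i u := by
        unfold tix at ht; unfold r0i
        split_ifs at ht ⊢ <;> omega
      rw [this, pt_r0 _ u.isLt] at he
      exact S.r_far_ne hu.1.1 he.symm

/-- Adjacency agrees with the table. -/
def Know (X : ℕ → Ω) (a b : ℕ) : Prop :=
  S.adj (F.pt X a) (F.pt X b) ↔ mAdj a b = true

theorem madj_symm {a b : ℕ} (ha : a < 126) (hb : b < 126) : mAdj a b = mAdj b a :=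
  (mAdj_basic ⟨a, ha⟩ ⟨b, hb⟩).2.1

theorem know_symm {a b : ℕ} (ha : a < 126) (hb : b < 126) (h : F.Know X a b) : F.Know X b a := by
  unfold Know at *
  rw [madj_symm hb ha, ← h]
  exact ⟨S.symm, S.symm⟩

theorem know_r0 {a b : ℕ} (ha : a < 126) (hb : b < 126) (h : F.Know X a b) :
    F.Know X (r0i a) (r0i b) := by
  unfold Know at *
  rw [F.pt_r0 ha, F.pt_r0 hb, S.adj_r_iff, show mAdj (r0i a) (r0i b) = mAdj a b from
    (mAdj_basic ⟨a, ha⟩ ⟨b, hb⟩).2.2]
  exact h

theorem know_near {a b : ℕ} (hX : ∀ t < 40, F.HasTr (X t) t) (ha : a < 46) (hb : b < 126) :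
    F.Know X a b := by
  obtain ⟨⟨h1, h00⟩, h0far⟩ : ((List.range 45).all (fun a => mAdj 0 (1 + a) &&
    (List.range 45).all (fun b => mAdj (1 + a) (1 + b) == gAdj a b) &&
    (List.range 40).all (fun t => mAdj (1 + a) (46 + t) == (traces.getD t 0).testBit a &&
      mAdj (1 + a) (86 + t) == (traces.getD t 0).testBit a)) = true ∧ (!(mAdj 0 0)) = true) ∧
    (List.range 40).all (fun t => !(mAdj 0 (46 + t)) && !(mAdj 0 (86 + t)) &&
      !(mAdj (46 + t) (86 + t))) = true := by
    simpa [chkNear, Bool.and_eq_true] using near_ok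
  have hq : ∀ b : Fin 45, F.Know X 0 (1 + b) := fun b => by
    have := of_all h1 b.isLt
    simp only [Bool.and_eq_true] at this
    unfold Know
    rw [F.pt_near, this.1.1]
    simpa [pt] using F.adj_f b
  rcases Nat.eq_zero_or_pos a with rfl | hapos
  · rcases Nat.lt_or_ge b 46 with hb' | hb'
    · rcases Nat.eq_zero_or_pos b with rfl | hbpos
      · unfold Know
        rw [Bool.not_eq_true'] at h00
        simp [pt, S.irrefl, h00]
      · obtain ⟨c, rfl⟩ : ∃ c : Fin 45, b = 1 + c := ⟨⟨b - 1, by omega⟩, by simp; omega⟩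
        exact hq c
    · obtain ⟨⟨hf, -⟩, -⟩ := F.pt_far hX hb' hb
      have hm : mAdj 0 b = false := by
        rcases Nat.lt_or_ge b 86 with h | h
        · have := of_all h0far (show b - 46 < 40 by omega)
          simp only [Bool.and_eq_true, Bool.not_eq_true', show 46 + (b - 46) = b by omega] at this
          exact this.1.1
        · have := of_all h0far (show b - 86 < 40 by omega)
          simp only [Bool.and_eq_true, Bool.not_eq_true', show 86 + (b - 86) = b by omega] at this
          exact this.1.2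
      unfold Know
      simp [hm]
      simpa [pt] using hf.2
  obtain ⟨c, rfl⟩ : ∃ c : Fin 45, a = 1 + c := ⟨⟨a - 1, by omega⟩, by simp; omega⟩
  have hc := of_all h1 c.isLt
  simp only [Bool.and_eq_true] at hc
  rcases Nat.lt_or_ge b 46 with hb' | hb'
  · rcases Nat.eq_zero_or_pos b with rfl | hbpos
    · exact F.know_symm (by omega) (by omega) (hq c)
    · obtain ⟨d, rfl⟩ : ∃ d : Fin 45, b = 1 + d := ⟨⟨b - 1, by omega⟩, by simp; omega⟩
      have := of_all hc.1.2 d.isLt
      rw [beq_iff_eq] at this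
      unfold Know
      rw [F.pt_near, F.pt_near, F.adj_iff, this]
  · obtain ⟨⟨-, htr⟩, -⟩ := F.pt_far hX hb' hb
    have hm : mAdj (1 + c) b = trBit (tix b) c := by
      rcases Nat.lt_or_ge b 86 with h | h
      · have := of_all hc.2 (show b - 46 < 40 by omega)
        simp only [Bool.and_eq_true, beq_iff_eq, show 46 + (b - 46) = b by omega] at this
        simpa [tix, h, trBit] using this.1
      · have := of_all hc.2 (show b - 86 < 40 by omega)
        simp only [Bool.and_eq_true, beq_iff_eq, show 86 + (b - 86) = b by omega] at this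
        simpa [tix, Nat.not_lt.2 h, trBit] using this.2
    unfold Know
    rw [F.pt_near, hm, ← htr]
    exact ⟨S.symm, S.symm⟩

theorem know_base {a b : ℕ} (hX : ∀ t < 40, F.HasTr (X t) t)
    (hE : ∀ e ∈ edgeTree, S.adj (X (e.getD 0 0))
      (if e.getD 2 0 = 0 then X (e.getD 1 0) else S.r q (X (e.getD 1 0))))
    (ha : a < 126) (hb : b < 126) (h : isBase a b = true) : F.Know X a b := by
  have htree : ∀ a b, isTree a b = true → a < 126 ∧ b < 126 → F.Know X a b := by
    intro a b h _
    simp only [isTree, List.any_eq_true, Bool.and_eq_true, beq_iff_eq] at h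
    obtain ⟨e, he, rfl, rfl⟩ := h
    obtain ⟨htr, hall⟩ := edgeTree_ok
    have hem := List.all_eq_true.1 hall e he
    simp only [Bool.and_eq_true, decide_eq_true_eq, witOK, beq_iff_eq] at hem
    have hi : e.getD 0 0 < 40 := hem.1.2.1.1.1.1.1.1
    have hk : e.getD 1 0 < 40 := hem.1.2.1.1.1.1.1.2
    have hE' := hE e he
    unfold Know
    rw [hem.2]
    simp only [iff_true]
    generalize e.getD 0 0 = i at *
    generalize e.getD 1 0 = k at *
    by_cases hb0 : e.getD 2 0 = 0
    · rw [if_pos hb0] at hE' ⊢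
      simpa [pt, show ¬46 + k < 46 by omega, show 46 + k < 86 by omega, show 46 + i < 86 by omega,
        show ¬46 + i < 46 by omega] using hE'
    · rw [if_neg hb0] at hE' ⊢
      simpa [pt, show ¬86 + k < 46 by omega, show ¬86 + k < 86 by omega, show 46 + i < 86 by omega,
        show ¬46 + i < 46 by omega] using hE'
  simp only [isBase, Bool.or_eq_true, decide_eq_true_eq, beq_iff_eq] at h
  rcases h with ((((((h | h) | h) | h) | h) | h) | h) | h
  · exact F.know_near hX h hb
  · exact F.know_symm hb ha (F.know_near hX h ha)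
  · subst h
    unfold Know
    rw [show mAdj a a = false from (mAdj_basic ⟨a, ha⟩ ⟨a, ha⟩).1]
    simp [S.irrefl]
  · rcases Nat.lt_or_ge b 46 with hb' | hb'
    · exact F.know_symm hb ha (F.know_near hX hb' ha)
    · obtain ⟨⟨hf, -⟩, -⟩ := F.pt_far hX hb' hb
      have hf' : ¬S.adj (S.r q (F.pt X b)) (F.pt X b) := by
        intro hadj
        rw [S.r_comm (Ne.symm hf.1) hf.2] at hadj
        have := S.r_adj (F.pt X b) hadj
        rw [S.r_invol, S.r_self] at this
        exact hf.2 this
      have hm : mAdj a b = false := by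
        rcases Nat.lt_or_ge b 86 with h' | h'
        · have := of_all (Bool.and_eq_true_iff.1 near_ok).2 (show b - 46 < 40 by omega)
          simp only [Bool.and_eq_true, Bool.not_eq_true', show 46 + (b - 46) = b by omega] at this
          rw [h, r0i, if_neg (by omega), if_pos h', madj_symm (by omega) hb,
            show b + 40 = 86 + (b - 46) by omega]
          exact this.2
        · have := of_all (Bool.and_eq_true_iff.1 near_ok).2 (show b - 86 < 40 by omega)
          simp only [Bool.and_eq_true, Bool.not_eq_true', show 86 + (b - 86) = b by omega] at this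
          rw [h, r0i, if_neg (by omega), if_neg (by omega),
            show b - 40 = 46 + (b - 86) by omega]
          exact this.2
      unfold Know
      rw [hm, h, F.pt_r0 hb]
      simp [hf']
  · exact htree a b h ⟨ha, hb⟩
  · exact F.know_symm hb ha (htree b a h ⟨hb, ha⟩)
  · have := htree _ _ h ⟨r0i_lt ha, r0i_lt hb⟩
    have := F.know_r0 (r0i_lt ha) (r0i_lt hb) this
    rwa [r0i_r0i ha, r0i_r0i hb] at this
  · have := htree _ _ h ⟨r0i_lt hb, r0i_lt ha⟩
    have := F.know_r0 (r0i_lt hb) (r0i_lt ha) this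
    rw [r0i_r0i ha, r0i_r0i hb] at this
    exact F.know_symm hb ha this
where
  r0i_r0i {v : ℕ} (hv : v < 126) : r0i (r0i v) = v := by
    unfold r0i; split_ifs <;> omega

end Frame45

end Cfsg.Agent.H32.M24Quad
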